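import Groth.Agent.Algz.K710.Hat
import Groth.Agent.Algz.K572.Dist3
import Groth.Agent.Algz.K572.DeltaYZ
import Groth.Agent.Flat2D.EssRes
import Groth.Agent.S0377
import Groth.Agent.S1721

/-!
# The depth inequality on a modification with small fibres
-/

set_option autoImplicit false
attribute [-instance] AlgebraicGeometry.specOverSpec
universe u

open CategoryTheory CategoryTheory.Limits AlgebraicGeometry Opposite TopologicalSpace

namespace K710.Star

open Groth.Agent.CycB.RelDim Groth.Agent.CalgA.UnivCat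

theorem isUniversallyCatenary_stalk (R : Type u) [CommRing R] (h : CAlg.IsUniversallyCatenary R)
    (y : (Spec (CommRingCat.of R) : Scheme.{u})) :
    CAlg.IsUniversallyCatenary ((Spec (CommRingCat.of R)).presheaf.stalk y) :=
  isUniversallyCatenary_of_ringEquiv
    (Spec.stalkIso (CommRingCat.of R) y).commRingCatIsoToRingEquiv.symm
    (isUniversallyCatenary_of_isLocalization y.asIdeal.primeCompl h)

theorem topologicalKrullDim_nonneg (T : Type*) [TopologicalSpace T] [h : Nonempty T] :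
    0 ≤ topologicalKrullDim T := by
  obtain ⟨x⟩ := h
  have : Nonempty (IrreducibleCloseds T) :=
    ⟨⟨closure {x}, isIrreducible_singleton.closure, isClosed_closure⟩⟩
  exact Order.krullDim_nonneg

theorem fst_snd_apply {X S Y : Scheme.{u}} (b : X ⟶ S) (i : Y ⟶ S) (z : ↑(pullback b i)) :
    b ((pullback.fst b i) z) = i ((pullback.snd b i) z) := by
  rw [← Scheme.Hom.comp_apply, pullback.condition, Scheme.Hom.comp_apply]

/-- fibres of the restriction to a closed subscheme -/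
theorem dim_fiber_snd {X S Y : Scheme.{u}} (b : X ⟶ S) (i : Y ⟶ S) [IsClosedImmersion i] (y : Y) :
    topologicalKrullDim ↑((pullback.snd b i).fiber y) ≤ topologicalKrullDim ↑(b.fiber (i y)) := by
  have h1 : ∀ z : ↑((pullback.snd b i) ⁻¹' {y}), (pullback.fst b i) z.1 ∈ b ⁻¹' {i y} := by
    intro z
    have h2 : (pullback.snd b i) z.1 = y := z.2
    change b ((pullback.fst b i) z.1) = i y
    exact (fst_snd_apply b i z.1).trans (congrArg i h2)
  let g : ↑((pullback.snd b i) ⁻¹' {y}) → ↑(b ⁻¹' {i y}) := fun z => ⟨_, h1 z⟩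
  have h4 : Topology.IsInducing (pullback.fst b i) :=
    (pullback.fst b i).isClosedEmbedding.isInducing
  have h3 : Topology.IsInducing ((Subtype.val : ↑(b ⁻¹' {i y}) → X) ∘ g) :=
    h4.comp Topology.IsInducing.subtypeVal
  have hg : Topology.IsInducing g :=
    Topology.IsInducing.of_comp (h3.continuous.subtype_mk _) continuous_subtype_val h3
  have h5 := ((b.fiberHomeo (i y)).symm.isInducing.comp hg).comp
    ((pullback.snd b i).fiberHomeo y).isInducing
  exact h5.topologicalKrullDim_le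

theorem isIso_restrict_of_le {Y Z : Scheme.{u}} (ν : Y ⟶ Z) {V W : Z.Opens} (h : W ≤ V)
    [IsIso (ν ∣_ V)] : IsIso (ν ∣_ W) := by
  have h1 : IsIso (ν ∣_ V ∣_ (V.ι ⁻¹ᵁ W)) := inferInstance
  have h2 : V.ι ''ᵁ (V.ι ⁻¹ᵁ W) = W := by
    ext x
    constructor
    · rintro ⟨y, hy, rfl⟩
      exact hy
    · intro hx
      exact ⟨⟨x, h hx⟩, hx, rfl⟩
  have h3 := (MorphismProperty.isomorphisms Scheme).arrow_mk_iso_iff
    (morphismRestrictRestrict ν V (V.ι ⁻¹ᵁ W))
  have h4 : IsIso (ν ∣_ V.ι ''ᵁ (V.ι ⁻¹ᵁ W)) := h3.1 h1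
  rw [h2] at h4
  exact h4

theorem isNoetherian_opens {Y : Scheme.{u}} [IsNoetherian Y] (W : Y.Opens) :
    IsNoetherian (W : Scheme.{u}) := by
  have : CompactSpace (W : Scheme.{u}) :=
    isCompact_iff_compactSpace.mp (NoetherianSpace.isCompact (W : Set Y))
  exact {}

section

variable (A : Type u) [CommRing A] (I : Ideal A)

/-- the closed immersion of `V(I)` -/
noncomputable def cl : Spec (CommRingCat.of (A ⧸ I)) ⟶ Spec (CommRingCat.of A) :=
  Spec.map (CommRingCat.ofHom (Ideal.Quotient.mk I))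

instance : IsClosedImmersion (cl A I) :=
  IsClosedImmersion.spec_of_surjective _ Ideal.Quotient.mk_surjective

theorem range_cl : Set.range (cl A I) = PrimeSpectrum.zeroLocus (R := A) I := by
  have h := range_comap_of_surjective (A ⧸ I) (Ideal.Quotient.mk I)
    Ideal.Quotient.mk_surjective
  rw [Ideal.mk_ker] at h
  exact h

end

/-- The distance on the modification. -/
theorem star_delta (A : Type u) [CommRing A] [IsNoetherianRing A]
    (hcat : CAlg.IsUniversallyCatenary A) (I : Ideal A)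
    (U : (Spec (CommRingCat.of A)).Opens) {X : Scheme.{u}} (b : X ⟶ Spec (CommRingCat.of A))
    [LocallyOfFiniteType b] (d : ℕ)
    (hfib : ∀ x : (Spec (CommRingCat.of A)),
      topologicalKrullDim ↑(pullback b ((Spec (CommRingCat.of A)).fromSpecResidueField x)) + 1 ≤
        (d : WithBot ℕ∞))
    (x : X) (hx : b x ∈ PrimeSpectrum.zeroLocus (R := A) I) (t : ℕ) (ht : rtd b x = t) :
    Algz.deltaYZ A I U ⟨b x, hx⟩ + t + 1 ≤
      Algz.deltaZ (Y := {x : X // b x ∈ PrimeSpectrum.zeroLocus (R := A) I})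
        {x | x.1 ∉ b ⁻¹ᵁ U} ⟨x, hx⟩ + d := by
  let Y := Spec (CommRingCat.of (A ⧸ I))
  let i : Y ⟶ Spec (CommRingCat.of A) := cl A I
  -- `d` is positive
  obtain ⟨e, rfl⟩ : ∃ e, d = e + 1 := by
    have h1 := hfib (b x)
    have hne : Nonempty ↑(pullback b ((Spec (CommRingCat.of A)).fromSpecResidueField (b x))) :=
      ⟨b.asFiber x⟩
    have h2 : (0 : WithBot ℕ∞) ≤
        topologicalKrullDim ↑(pullback b ((Spec (CommRingCat.of A)).fromSpecResidueField (b x))) :=
      topologicalKrullDim_nonneg _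
    rcases Nat.eq_zero_or_pos d with rfl | h
    · exfalso
      have h3 := (add_le_add_left h2 1).trans h1
      norm_num at h3
    · exact ⟨d - 1, by omega⟩
  have hfib' : ∀ x, topologicalKrullDim ↑(b.fiber x) ≤ (e : WithBot ℕ∞) := by
    intro x
    have h1 := hfib x
    change topologicalKrullDim ↑(b.fiber x) + 1 ≤ _ at h1
    generalize topologicalKrullDim ↑(b.fiber x) = D at h1
    induction D using WithBot.recBotCoe with
    | bot => exact bot_le
    | coe D =>
      induction D using ENat.recTopCoe with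
      | top =>
        exfalso
        have h2 : (⊤ : ℕ∞) + 1 ≤ ((e + 1 : ℕ) : ℕ∞) := by exact_mod_cast h1
        rw [top_add] at h2
        exact absurd h2 (by simp)
      | coe n =>
        have h2 : n + 1 ≤ e + 1 := by exact_mod_cast h1
        have h3 : n ≤ e := by omega
        exact_mod_cast h3
  -- the point of the restriction over `x`
  obtain ⟨y0, hy0⟩ : ∃ y0 : Y, i y0 = b x := by
    have h1 : b x ∈ Set.range (cl A I) := by rw [range_cl]; exact hx
    exact h1
  obtain ⟨z0, hz1, hz2⟩ := Scheme.Pullback.exists_preimage_pullback x y0 hy0.symm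
  let f := pullback.snd b i
  let i' := pullback.fst b i
  have hcatq : CAlg.IsUniversallyCatenary (A ⧸ I) := isUniversallyCatenary_quotient I hcat
  have hrtd : rtd f z0 = t := by
    have h1 : rtd (i' ≫ b) z0 = rtd b x + rtd i' z0 := by
      rw [rtd_comp]
      rw [hz1]
    have h2 : rtd (f ≫ i) z0 = rtd i y0 + rtd f z0 := by
      rw [rtd_comp]
      rw [hz2]
    have h3 : rtd (i' ≫ b) z0 = rtd (f ≫ i) z0 := by
      rw [pullback.condition]
    rw [h1, h2, rtd_eq_zero_of_isPreimmersion i', rtd_eq_zero_of_isPreimmersion i, add_zero,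
      zero_add, ht] at h3
    exact h3.symm
  have h1 := K572.Dist3.main (isUniversallyCatenary_stalk (A ⧸ I) hcatq) (i ⁻¹' (U : Set _)ᶜ) f e
    (fun y => (dim_fiber_snd b i y).trans (hfib' (i y))) z0 t hrtd
  -- transfer to `V(I)`
  let g : Y → PrimeSpectrum.zeroLocus (R := A) I := fun y => ⟨i y, by
    rw [← range_cl]; exact ⟨y, rfl⟩⟩
  have hgi : Topology.IsInducing g := by
    have h3 : Topology.IsInducing (Subtype.val ∘ g) := (cl A I).isClosedEmbedding.isInducing
    exact Topology.IsInducing.of_comp (h3.continuous.subtype_mk _) continuous_subtype_val h3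
  have hgs : Function.Surjective g := by
    rintro ⟨p, hp⟩
    rw [← range_cl] at hp
    obtain ⟨y, rfl⟩ := hp
    exact ⟨y, rfl⟩
  have h2 := K572.Dist.deltaZ_le_of_inducing hgi (fun v y _ => hgs y) {p | p.1 ∉ U.1} y0
  -- transfer from `W`
  let W := {x : X // b x ∈ PrimeSpectrum.zeroLocus (R := A) I}
  have hfi : ∀ z, b (i' z) = i (f z) := fst_snd_apply b i
  let k : ↑(pullback b i) → W := fun z => ⟨i' z, by
    rw [hfi, ← range_cl]; exact ⟨_, rfl⟩⟩
  have hki : Topology.IsInducing k := by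
    have h3 : Topology.IsInducing (Subtype.val ∘ k) := i'.isClosedEmbedding.isInducing
    exact Topology.IsInducing.of_comp (h3.continuous.subtype_mk _) continuous_subtype_val h3
  have hkinj : Function.Injective k := by
    intro z z' h
    exact i'.isClosedEmbedding.injective (congrArg Subtype.val h)
  have hks : Function.Surjective k := by
    rintro ⟨p, hp⟩
    have hp' := hp
    rw [← range_cl] at hp'
    obtain ⟨y, hy⟩ := hp'
    obtain ⟨z, hz, -⟩ := Scheme.Pullback.exists_preimage_pullback (f := b) (g := i) p y hy.symm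
    exact ⟨z, Subtype.ext hz⟩
  let kh : ↑(pullback b i) ≃ₜ W :=
    (Equiv.ofBijective k ⟨hkinj, hks⟩).toHomeomorphOfIsInducing hki
  have hkz : kh.symm ⟨x, hx⟩ = z0 := by
    rw [Homeomorph.symm_apply_eq]
    exact Subtype.ext hz1.symm
  have h4 := K572.Dist.deltaZ_le_of_inducing kh.symm.isInducing
    (fun v y _ => kh.symm.surjective y) (f ⁻¹' (i ⁻¹' (U : Set _)ᶜ)) (⟨x, hx⟩ : W)
  rw [hkz] at h4
  have hset : kh.symm ⁻¹' (f ⁻¹' (i ⁻¹' (U : Set _)ᶜ)) = ({x | x.1 ∉ b ⁻¹ᵁ U} : Set W) := by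
    ext w
    obtain ⟨z, rfl⟩ := kh.surjective w
    simp only [Set.mem_preimage, Homeomorph.symm_apply_apply, Set.mem_compl_iff, Set.mem_ofPred_eq]
    rw [← hfi]
    rfl
  rw [hset] at h4
  have hg0 : g y0 = ⟨b x, hx⟩ := Subtype.ext hy0
  rw [hg0] at h2
  have h5 : Algz.deltaYZ A I U ⟨b x, hx⟩ ≤ Algz.deltaZ (i ⁻¹' (U : Set _)ᶜ) (f z0) := by
    rw [hz2]
    exact h2
  calc Algz.deltaYZ A I U ⟨b x, hx⟩ + t + 1
      ≤ Algz.deltaZ (i ⁻¹' (U : Set _)ᶜ) (f z0) + t + 1 := by gcongr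
    _ ≤ Algz.deltaZ (f ⁻¹' (i ⁻¹' (U : Set _)ᶜ)) z0 + e + 1 := by gcongr
    _ ≤ Algz.deltaZ (Y := W) {x | x.1 ∉ b ⁻¹ᵁ U} ⟨x, hx⟩ + e + 1 := by gcongr
    _ = _ := by rw [add_assoc]; norm_cast

section Point

variable {A : Type u} [CommRing A] {X : Scheme.{u}} [X.Over (Spec (CommRingCat.of A))]

theorem essFiniteType_toStalk [LocallyOfFiniteType (X ↘ Spec (CommRingCat.of A))] (y : X) :
    (Algz.toStalk A X y).EssFiniteType := by
  let s : CommRingCat.of A ⟶ X.presheaf.stalk y := CommRingCat.ofHom (Algz.toStalk A X y)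
  let p := X ↘ Spec (CommRingCat.of A)
  have h1 : s = ((Scheme.ΓSpecIso (CommRingCat.of A)).inv ≫
      (Spec (CommRingCat.of A)).presheaf.germ ⊤ (p y) trivial) ≫ p.stalkMap y := by
    rw [Category.assoc, Scheme.Hom.germ_stalkMap]
    rfl
  have h2 := Groth.Agent.Flat2D.EssRes.essFiniteType_comp _ _
    (Groth.Agent.Flat2D.EssRes.essFiniteType_toStalk (CommRingCat.of A) (p y))
    (LocallyOfFiniteType.stalkMap p y)
  rw [← h1] at h2
  exact h2

theorem exists_dualizing_stalk [IsNoetherianRing A]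
    (hdc : ∃ ω : Dual.D A, Dual.IsDualizing A ω)
    [LocallyOfFiniteType (X ↘ Spec (CommRingCat.of A))] (y : X) :
    ∃ ω : Dual.D (X.presheaf.stalk y), Dual.IsDualizing (X.presheaf.stalk y) ω := by
  obtain ⟨ω, hω⟩ := hdc
  let : Algebra A (X.presheaf.stalk y) := (Algz.toStalk A X y).toAlgebra
  have : Algebra.EssFiniteType A (X.presheaf.stalk y) := essFiniteType_toStalk y
  exact Groth.Agent.S0377.result A ω hω _

theorem isLocalRing_hatRing (I : Ideal A) (y : X)
    [IsNoetherianRing (X.presheaf.stalk y)]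
    (hy : I ≤ ((X ↘ Spec (CommRingCat.of A)).base y).asIdeal) :
    IsLocalRing (Algz.hatRing I y) :=
  Groth.Agent.Sga2lef.H106.Local.isLocalRing_cp _ (Hat.stalkIdeal_le I y hy)

theorem hatIdeal_le (I : Ideal A) (y : X) [IsLocalRing (Algz.hatRing I y)]
    (hy : I ≤ ((X ↘ Spec (CommRingCat.of A)).base y).asIdeal) :
    Algz.hatIdeal I y ≤ IsLocalRing.maximalIdeal (Algz.hatRing I y) := by
  rw [Algz.hatIdeal, Ideal.map_le_iff_le_comap]
  intro a ha
  rw [Ideal.mem_comap, ← HatLoc.ker_res (Hat.stalkIdeal_le I y hy), RingHom.mem_ker]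
  refine (HatLoc.res_algebraMap _ a).trans ?_
  rw [IsLocalRing.residue_eq_zero_iff]
  exact Hat.stalkIdeal_le I y hy ha

end Point

theorem arith1 {a c e : ℕ∞} {d : ℕ} (h : ((d + 1 : ℕ) : ℕ∞) < a + e) (hc : 1 ≤ c) :
    ((d + 2 : ℕ) : ℕ∞) < a + c + e := by
  rcases eq_or_ne a ⊤ with rfl | ha
  · rw [top_add, top_add]; exact ENat.natCast_lt_top _
  rcases eq_or_ne c ⊤ with rfl | hc'
  · rw [add_top, top_add]; exact ENat.natCast_lt_top _
  rcases eq_or_ne e ⊤ with rfl | he
  · rw [add_top]; exact ENat.natCast_lt_top _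
  lift a to ℕ using ha
  lift c to ℕ using hc'
  lift e to ℕ using he
  norm_cast at h hc ⊢
  omega

theorem arith2 {a c e : ℕ∞} {d : ℕ} (h : ((d + 1 : ℕ) : ℕ∞) ≤ a + e) (hc : 2 ≤ c) :
    ((d + 2 : ℕ) : ℕ∞) < a + c + e := by
  rcases eq_or_ne a ⊤ with rfl | ha
  · rw [top_add, top_add]; exact ENat.natCast_lt_top _
  rcases eq_or_ne c ⊤ with rfl | hc'
  · rw [add_top, top_add]; exact ENat.natCast_lt_top _
  rcases eq_or_ne e ⊤ with rfl | he
  · rw [add_top]; exact ENat.natCast_lt_top _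
  lift a to ℕ using ha
  lift c to ℕ using hc'
  lift e to ℕ using he
  norm_cast at h hc ⊢
  omega

theorem arith3 {D C δ D' C' δ' : ℕ∞} {d t : ℕ} (h : ((d + 2 : ℕ) : ℕ∞) < D + C + δ)
    (h1 : D + C = D' + C' + t) (h2 : δ + t + 1 ≤ δ' + d) :
    ((3 : ℕ) : ℕ∞) < D' + C' + δ' := by
  rw [h1] at h
  clear h1
  rcases eq_or_ne D' ⊤ with rfl | ha
  · rw [top_add, top_add]; exact ENat.natCast_lt_top _
  rcases eq_or_ne C' ⊤ with rfl | hc'
  · rw [add_top, top_add]; exact ENat.natCast_lt_top _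
  rcases eq_or_ne δ' ⊤ with rfl | he
  · rw [add_top]; exact ENat.natCast_lt_top _
  lift D' to ℕ using ha
  lift C' to ℕ using hc'
  lift δ' to ℕ using he
  rcases eq_or_ne δ ⊤ with rfl | hf
  · exfalso
    rw [top_add, top_add, top_le_iff] at h2
    exact absurd h2 (by norm_cast)
  lift δ to ℕ using hf
  norm_cast at h h2 ⊢
  omega

/-- The closed point clause of the `(d+1, d+2)`-inequalities and the other one give the single
inequality. -/
theorem of_abIneqAt {R : Type u} [CommRing R] [IsLocalRing R] {J : Ideal R}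
    (hJ : J ≤ IsLocalRing.maximalIdeal R) {M : Type u} [AddCommGroup M] [Module R M] {δ : ℕ∞}
    {d : ℕ} (h : Algz.AbIneqAt R J M δ (d + 1) (d + 2)) (P : PrimeSpectrum R)
    (hP : ¬ J ≤ P.asIdeal) :
    ((d + 2 : ℕ) : ℕ∞) < Algz.depthAt P M + Order.coheight P + δ := by
  obtain ⟨h1, h2⟩ := h P hP
  generalize Algz.depthAt P M = a at h1 h2
  by_cases hm : Algz.MeetsOnlyAtTop J P
  · have h3 := h2 hm
    have hlt : P < IsLocalRing.closedPoint R := by
      refine lt_of_le_of_ne (IsLocalRing.le_maximalIdeal P.2.ne_top) ?_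
      rintro rfl
      exact hP hJ
    have h4 : 1 ≤ Order.coheight P :=
      le_trans (by simp) (Order.coheight_add_one_le hlt)
    exact arith1 h3 h4
  · rcases h1 hm with h3 | h3
    · obtain ⟨q, hPq, hJq, hq⟩ : ∃ q : PrimeSpectrum R, P ≤ q ∧ J ≤ q.asIdeal ∧
          ¬ q.asIdeal.IsMaximal := by
        by_contra hcon
        push Not at hcon
        exact hm ⟨⟨IsLocalRing.closedPoint R, IsLocalRing.le_maximalIdeal P.2.ne_top, hJ⟩, hcon⟩
      have hlt : P < q := lt_of_le_of_ne hPq (by rintro rfl; exact hP hJq)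
      have hlt' : q < IsLocalRing.closedPoint R := by
        refine lt_of_le_of_ne (IsLocalRing.le_maximalIdeal q.2.ne_top) ?_
        rintro rfl
        exact hq (IsLocalRing.maximalIdeal.isMaximal R)
      have h4 : 1 ≤ Order.coheight q := le_trans (by simp) (Order.coheight_add_one_le hlt')
      have h5 : 2 ≤ Order.coheight P := by
        refine le_trans ?_ (Order.coheight_add_one_le hlt)
        have : (2 : ℕ∞) = 1 + 1 := by norm_num
        rw [this]
        gcongr
      exact arith2 h3 h5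
    · exact h3

end K710.Star

namespace K710

open Groth.Agent.CycB.RelDim

/-- **[STAR]**: on a modification which is an isomorphism away from `V(I)` and whose fibres have
dimension at most `d - 1`, the hypothesis of algebraization for `d` becomes the one for `1`. -/
theorem star (A : Type u) [CommRing A] [IsNoetherianRing A]
    (hdc : ∃ ω : Dual.D A, Dual.IsDualizing A ω) (I 𝔞 : Ideal A)
    (G : ℕᵒᵖ ⥤ (↑(LocCoh.puncturedOpen A 𝔞) : Scheme.{u}).Modules)
    (hG : Formal.IsCohFormal I G) (d : ℕ) (X' : Scheme.{u}) [IsNoetherian X']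
    [X'.Over (Spec (CommRingCat.of A))] (b : X' ⟶ Spec (CommRingCat.of A))
    [LocallyOfFiniteType b] (hXb : X' ↘ Spec (CommRingCat.of A) = b)
    (hb : IsIso (b ∣_ LocCoh.puncturedOpen A I))
    (hfib : ∀ x : (Spec (CommRingCat.of A)),
      topologicalKrullDim ↑(pullback b ((Spec (CommRingCat.of A)).fromSpecResidueField x)) + 1 ≤
        (d : WithBot ℕ∞))
    (h3 : Algz.AbIneq A I (LocCoh.puncturedOpen A 𝔞) G (d + 1) (d + 2) ∨
      ∀ (y : (↑(LocCoh.puncturedOpen A 𝔞) : Scheme.{u}))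
        (hy : (LocCoh.puncturedOpen A 𝔞).ι.base y ∈ PrimeSpectrum.zeroLocus (R := A) I),
        ∀ P : PrimeSpectrum (Algz.hatRing I y), ¬ Algz.hatIdeal I y ≤ P.asIdeal →
          ((d + 2 : ℕ) : ℕ∞) < Algz.depthAt P ↥(Algz.hatStalk I G y) + Order.coheight P +
            Algz.deltaYZ A I (LocCoh.puncturedOpen A 𝔞)
              ⟨(LocCoh.puncturedOpen A 𝔞).ι.base y, hy⟩)
    (y' : ((b ⁻¹ᵁ LocCoh.puncturedOpen A 𝔞 : X'.Opens) : Scheme.{u}))
    (hy' : b ((b ⁻¹ᵁ LocCoh.puncturedOpen A 𝔞).ι y') ∈ PrimeSpectrum.zeroLocus (R := A) I)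
    (P' : PrimeSpectrum (Algz.hatRing I y')) (hP' : ¬ Algz.hatIdeal I y' ≤ P'.asIdeal) :
    ((3 : ℕ) : ℕ∞) < Algz.depthAt P' ↥(Algz.hatStalk I
        (G ⋙ Scheme.Modules.pullback (b ∣_ LocCoh.puncturedOpen A 𝔞)) y') + Order.coheight P' +
      Algz.deltaZ (Y := {x : X' // b x ∈ PrimeSpectrum.zeroLocus (R := A) I})
        {x | x.1 ∉ b ⁻¹ᵁ LocCoh.puncturedOpen A 𝔞}
        ⟨(b ⁻¹ᵁ LocCoh.puncturedOpen A 𝔞).ι y', hy'⟩ := by
  let U := LocCoh.puncturedOpen A 𝔞
  have hcat : CAlg.IsUniversallyCatenary A := by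
    obtain ⟨ω, hω⟩ := hdc
    exact Groth.Agent.S1721.result A ω hω
  have hXU : ((b ⁻¹ᵁ U : X'.Opens) : Scheme.{u}) ↘ Spec (CommRingCat.of A) =
      (b ⁻¹ᵁ U).ι ≫ b := by
    rw [← hXb]
    rfl
  have hover : (b ∣_ U) ≫ ((U : Scheme.{u}) ↘ Spec (CommRingCat.of A)) =
      ((b ⁻¹ᵁ U : X'.Opens) : Scheme.{u}) ↘ Spec (CommRingCat.of A) := by
    rw [hXU]
    exact morphismRestrict_ι b U
  let y : (U : Scheme.{u}) := (b ∣_ U) y'
  have hyy : U.ι y = b ((b ⁻¹ᵁ U).ι y') := by
    have h1 := congrArg (fun (f : ((b ⁻¹ᵁ U : X'.Opens) : Scheme.{u}) ⟶ _) => f y')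
      (morphismRestrict_ι b U)
    exact h1
  have hy : U.ι.base y ∈ PrimeSpectrum.zeroLocus (R := A) I := by
    rw [hyy]
    exact hy'
  obtain ⟨t, ht⟩ := K572.Dist3.exists_rtd (b ∣_ U) y'
  have hrtd : rtd b ((b ⁻¹ᵁ U).ι y') = t := by
    have h1 := rtd_comp (b ∣_ U) U.ι y'
    have h2 := rtd_comp (b ⁻¹ᵁ U).ι b y'
    rw [morphismRestrict_ι, h2, rtd_eq_zero_of_isPreimmersion (b ⁻¹ᵁ U).ι,
      rtd_eq_zero_of_isPreimmersion U.ι, add_zero, zero_add, ht] at h1
    exact h1
  have hδ := Star.star_delta A hcat I U b d hfib _ hy' t hrtd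
  have nU : IsNoetherian (U : Scheme.{u}) := Star.isNoetherian_opens U
  have nX : IsNoetherian ((b ⁻¹ᵁ U : X'.Opens) : Scheme.{u}) := Star.isNoetherian_opens _
  have lU : LocallyOfFiniteType ((U : Scheme.{u}) ↘ Spec (CommRingCat.of A)) :=
    inferInstanceAs (LocallyOfFiniteType U.ι)
  have hyI : I ≤ (((U : Scheme.{u}) ↘ Spec (CommRingCat.of A)).base y).asIdeal := hy
  have hy'I : I ≤ ((((b ⁻¹ᵁ U : X'.Opens) : Scheme.{u}) ↘ Spec (CommRingCat.of A)).base
      y').asIdeal := by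
    rw [hXU]
    exact hy'
  have hiso : ∀ V : (U : Scheme.{u}).Opens,
      (∀ x ∈ V, ¬ I ≤ (((U : Scheme.{u}) ↘ Spec (CommRingCat.of A)).base x).asIdeal) →
      IsIso ((b ∣_ U) ∣_ V) := by
    intro V hV
    have h1 : U.ι ''ᵁ V ≤ LocCoh.puncturedOpen A I := by
      rintro _ ⟨x, hx, rfl⟩ hxI
      exact hV x hx hxI
    have h2 := Star.isIso_restrict_of_le b h1
    exact ((MorphismProperty.isomorphisms Scheme).arrow_mk_iso_iff
      (morphismRestrictRestrict b U V)).2 h2
  obtain ⟨P, hP, hPP⟩ := Hat.hat_eq (I := I) (b := b ∣_ U) hover hiso hG y'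
    (Star.exists_dualizing_stalk hdc y) hy'I t ht P' hP'
  have hloc : IsLocalRing (Algz.hatRing I y) := Star.isLocalRing_hatRing I y hyI
  have key : ((d + 2 : ℕ) : ℕ∞) < Algz.depthAt P ↥(Algz.hatStalk I G y) + Order.coheight P +
      Algz.deltaYZ A I U ⟨U.ι.base y, hy⟩ := by
    rcases h3 with h3 | h3
    · exact Star.of_abIneqAt (Star.hatIdeal_le I y hyI) (h3 y hy) P hP
    · exact h3 y hy P hP
  have hδ' : Algz.deltaYZ A I U ⟨U.ι.base y, hy⟩ =
      Algz.deltaYZ A I U ⟨b ((b ⁻¹ᵁ U).ι y'), hy'⟩ := by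
    congr 1
    exact Subtype.ext hyy
  rw [hδ'] at key
  exact Star.arith3 key hPP hδ

end K710
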