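import Groth.Agent.Algz.K710.Star

/-!
# Primes meeting a locally principal ideal only at the closed point
-/

set_option autoImplicit false
attribute [-instance] AlgebraicGeometry.specOverSpec
universe u

open CategoryTheory AlgebraicGeometry Opposite

namespace K710.CoheightOne

/-- If `V(P) ∩ V(J)` is the closed point and `J` has the radical of a principal ideal, then
`dim R/P ≤ 1`. -/
theorem coheight_le_one {R : Type u} [CommRing R] [IsNoetherianRing R] [IsLocalRing R]
    {J : Ideal R} {t : R} (h : J.radical = (Ideal.span {t}).radical) (P : PrimeSpectrum R)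
    (hP : Algz.MeetsOnlyAtTop J P) : Order.coheight P ≤ 1 := by
  by_contra hcon
  have h2 : ((2 : ℕ) : ℕ∞) ≤ Order.coheight P := by
    have := Order.add_one_le_of_lt (not_le.1 hcon)
    norm_num at this
    exact_mod_cast this
  obtain ⟨s, hs0, hs2⟩ := Order.exists_series_of_le_coheight P h2
  obtain ⟨Q, Q', hPQ, hQQ'⟩ : ∃ Q Q' : PrimeSpectrum R, P < Q ∧ Q < Q' := by
    have h0 : s ⟨0, by omega⟩ = P := hs0
    refine ⟨s ⟨1, by omega⟩, s ⟨2, by omega⟩, ?_, ?_⟩
    · rw [← h0]
      exact s.strictMono (by simp [Fin.lt_def])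
    · exact s.strictMono (by simp [Fin.lt_def])
  have hQm : Q.asIdeal < IsLocalRing.maximalIdeal R :=
    lt_of_lt_of_le hQQ' (IsLocalRing.le_maximalIdeal Q'.2.ne_top)
  have hmin : IsLocalRing.maximalIdeal R ∈ (P.asIdeal ⊔ Ideal.span {t}).minimalPrimes := by
    obtain ⟨q, hPq, hJq⟩ := hP.1
    have hq := IsLocalRing.eq_maximalIdeal (hP.2 q hPq hJq)
    refine ⟨⟨inferInstance, ?_⟩, ?_⟩
    · refine sup_le (IsLocalRing.le_maximalIdeal P.2.ne_top) ?_
      refine Ideal.le_radical.trans ?_
      rw [← h, Ideal.IsPrime.radical_le_iff inferInstance, ← hq]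
      exact hJq
    · rintro q' ⟨hq'1, hq'2⟩ hq'3
      have hJq' : J ≤ q' := by
        refine Ideal.le_radical.trans ?_
        rw [h, Ideal.IsPrime.radical_le_iff hq'1]
        exact le_sup_right.trans hq'2
      exact (IsLocalRing.eq_maximalIdeal
        (hP.2 ⟨q', hq'1⟩ (le_sup_left.trans hq'2) hJq')).ge
  have h1 := Ideal.map_height_le_one_of_mem_minimalPrimes hmin
  let f := Ideal.Quotient.mk P.asIdeal
  have hf : Function.Surjective f := Ideal.Quotient.mk_surjective
  have hk : RingHom.ker f = P.asIdeal := Ideal.mk_ker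
  have hlt : ∀ {a b : Ideal R}, P.asIdeal ≤ a → P.asIdeal ≤ b → a < b → a.map f < b.map f := by
    intro a b ha hb hab
    refine lt_of_le_of_ne (Ideal.map_mono hab.le) fun e => hab.ne ?_
    have h3 := congrArg (Ideal.comap f) e
    rwa [Ideal.comap_map_of_surjective' f hf, Ideal.comap_map_of_surjective' f hf, hk,
      sup_eq_left.2 ha, sup_eq_left.2 hb] at h3
  have p0 : (P.asIdeal.map f).IsPrime := Ideal.map_isPrime_of_surjective hf hk.le
  have p1 : (Q.asIdeal.map f).IsPrime :=
    Ideal.map_isPrime_of_surjective hf (hk.le.trans hPQ.le)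
  have p2 : ((IsLocalRing.maximalIdeal R).map f).IsPrime :=
    Ideal.map_isPrime_of_surjective hf (hk.le.trans (IsLocalRing.le_maximalIdeal P.2.ne_top))
  have h3 := Ideal.height_add_one_le_of_lt_of_isPrime (hlt le_rfl hPQ.le hPQ)
  have h4 := Ideal.height_add_one_le_of_lt_of_isPrime
    (hlt hPQ.le (IsLocalRing.le_maximalIdeal P.2.ne_top) hQm)
  have h5 : (1 : ℕ∞) + 1 ≤ 1 := by
    calc (1 : ℕ∞) + 1 ≤ (Q.asIdeal.map f).height + 1 := by
          gcongr
          exact le_trans (by simp) h3
      _ ≤ _ := h4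
      _ ≤ 1 := h1
  exact absurd h5 (by decide)

theorem radical_map_congr {R S : Type u} [CommRing R] [CommRing S] (f : R →+* S) {J K : Ideal R}
    (h : J.radical = K.radical) : (J.map f).radical = (K.map f).radical := by
  have key : ∀ {J K : Ideal R}, J.radical = K.radical → (J.map f).radical ≤ (K.map f).radical := by
    intro J K h
    refine Ideal.radical_le_radical_iff.2 ?_
    rw [Ideal.map_le_iff_le_comap]
    refine Ideal.le_radical.trans ?_
    rw [h]
    exact (Ideal.map_le_iff_le_comap.1 (Ideal.map_radical_le f))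
  exact le_antisymm (key h) (key h.symm)

section Point

variable {A : Type u} [CommRing A] {X X' : Scheme.{u}} [X.Over (Spec (CommRingCat.of A))]
  [X'.Over (Spec (CommRingCat.of A))]

/-- At a point where `I` has the radical of a principal ideal, a prime of the completed local ring
which meets `V(I)` only at the closed point has coheight at most one. -/
theorem hat_coheight_le_one (I : Ideal A) (y : X) [IsNoetherianRing (X.presheaf.stalk y)]
    (hy : I ≤ ((X ↘ Spec (CommRingCat.of A)).base y).asIdeal) (t : X.presheaf.stalk y)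
    (ht : (Algz.stalkIdeal I y).radical = (Ideal.span {t}).radical)
    (P : PrimeSpectrum (Algz.hatRing I y)) (hP : Algz.MeetsOnlyAtTop (Algz.hatIdeal I y) P) :
    Order.coheight P ≤ 1 := by
  have hloc : IsLocalRing (Algz.hatRing I y) := Star.isLocalRing_hatRing I y hy
  have hN : IsNoetherianRing (Algz.hatRing I y) :=
    Groth.Agent.Ega4A.CompleteNoeth.isNoetherianRing_adicCompletion _
  refine coheight_le_one (t := algebraMap _ (Algz.hatRing I y) t) ?_ P hP
  rw [Algz.hatIdeal]
  have h1 := radical_map_congr (algebraMap (X.presheaf.stalk y) (Algz.hatRing I y)) ht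
  rw [Ideal.map_span, Set.image_singleton] at h1
  exact h1

/-- The same, when an ideal with the same radical becomes principal. -/
theorem hat_coheight_le_one' {I J : Ideal A} (hIJ : I.radical = J.radical) (y : X)
    [IsNoetherianRing (X.presheaf.stalk y)]
    (hy : I ≤ ((X ↘ Spec (CommRingCat.of A)).base y).asIdeal)
    (ht : (Algz.stalkIdeal J y).IsPrincipal)
    (P : PrimeSpectrum (Algz.hatRing I y)) (hP : Algz.MeetsOnlyAtTop (Algz.hatIdeal I y) P) :
    Order.coheight P ≤ 1 := by
  obtain ⟨t, ht⟩ := ht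
  refine hat_coheight_le_one I y hy t ?_ P hP
  have h1 := radical_map_congr (Algz.toStalk A X y) hIJ
  have h2 : J.map (Algz.toStalk A X y) = Ideal.span {t} := ht
  rw [h2] at h1
  exact h1

theorem isPrincipal_map {R S : Type u} [CommRing R] [CommRing S] (f : R →+* S) {J : Ideal R}
    (h : J.IsPrincipal) : (J.map f).IsPrincipal := by
  obtain ⟨t, rfl⟩ := h
  refine ⟨f t, ?_⟩
  change (Ideal.span {t}).map f = Ideal.span {f t}
  rw [Ideal.map_span, Set.image_singleton]

/-- The pull-back of a locally principal ideal is locally principal. -/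
theorem isPrincipal_stalkIdeal_of_hom (J : Ideal A) (b : X' ⟶ X)
    (hb : b ≫ (X ↘ Spec (CommRingCat.of A)) = X' ↘ Spec (CommRingCat.of A)) (y' : X')
    (h : (Algz.stalkIdeal J (b y')).IsPrincipal) : (Algz.stalkIdeal J y').IsPrincipal := by
  rw [Hat.map_stalkIdeal J b hb y']
  exact isPrincipal_map _ h

theorem isPrincipal_stalkIdeal_of_isOpenImmersion (J : Ideal A) (b : X' ⟶ X)
    (hb : b ≫ (X ↘ Spec (CommRingCat.of A)) = X' ↘ Spec (CommRingCat.of A)) [IsOpenImmersion b]
    (y' : X') (h : (Algz.stalkIdeal J y').IsPrincipal) : (Algz.stalkIdeal J (b y')).IsPrincipal := by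
  rw [Hat.map_stalkIdeal J b hb y'] at h
  have h1 := isPrincipal_map (inv (b.stalkMap y')).hom h
  rw [Ideal.map_map, ← CommRingCat.hom_comp, IsIso.hom_inv_id, CommRingCat.hom_id,
    Ideal.map_id] at h1
  exact h1

/-- On a chart `Spec B` on which `J` becomes principal, `J` is principal in the local rings. -/
theorem isPrincipal_stalkIdeal_of_chart (J : Ideal A) {B : Type u} [CommRing B] (f : A →+* B)
    (hJ : (J.map f).IsPrincipal) (φ : Spec (CommRingCat.of B) ⟶ X) [IsOpenImmersion φ]
    (hφ : φ ≫ (X ↘ Spec (CommRingCat.of A)) = Spec.map (CommRingCat.ofHom f))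
    (z : Spec (CommRingCat.of B)) : (Algz.stalkIdeal J (φ z)).IsPrincipal := by
  let : (Spec (CommRingCat.of B)).Over (Spec (CommRingCat.of A)) :=
    ⟨Spec.map (CommRingCat.ofHom f)⟩
  refine isPrincipal_stalkIdeal_of_isOpenImmersion J φ hφ z ?_
  let g : B →+* (Spec (CommRingCat.of B)).presheaf.stalk z :=
    ((Spec (CommRingCat.of B)).presheaf.germ ⊤ z trivial).hom.comp
      (Scheme.ΓSpecIso (CommRingCat.of B)).inv.hom
  have h1 : Algz.toStalk A (Spec (CommRingCat.of B)) z = g.comp f := by
    ext a
    change (Spec (CommRingCat.of B)).presheaf.germ ⊤ z trivial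
      ((Spec.map (CommRingCat.ofHom f)).appTop ((Scheme.ΓSpecIso (CommRingCat.of A)).inv a)) =
      (Spec (CommRingCat.of B)).presheaf.germ ⊤ z trivial
        ((Scheme.ΓSpecIso (CommRingCat.of B)).inv (f a))
    congr 1
    have h2 := Scheme.ΓSpecIso_inv_naturality (CommRingCat.ofHom f)
    exact congr($h2 a).symm
  rw [Algz.stalkIdeal, h1, ← Ideal.map_map]
  exact isPrincipal_map _ hJ

end Point

end K710.CoheightOne
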