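import Groth.Agent.CurvesB.EtaleCompl
import Groth.Agent.UnramA.AdicEquiv
import Mathlib.RingTheory.AdicCompletion.Noetherian
import Mathlib.RingTheory.TensorProduct.Maps

/-!
# The completion of `O^ ⊗_O O'`

`O → O'` a ring map, `J` an ideal of `O`, `R = O^` the `J`-adic completion, `R' = O'^` the `J O'`-adic
completion, `R1 = R ⊗_O O'`.  Then the completion of `R1` is `R'`.
-/

set_option autoImplicit false
universe u

open TensorProduct

namespace K710.CplBC

variable {O O' : Type u} [CommRing O] [CommRing O'] [Algebra O O'] {J : Ideal O} {J' : Ideal O'}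
  [Algebra (AdicCompletion J O) (AdicCompletion J' O')]

theorem exists_approx (hfg : J.FG) (n : ℕ) (b : AdicCompletion J O) :
    ∃ a : O, b - algebraMap O (AdicCompletion J O) a ∈
      (J.map (algebraMap O (AdicCompletion J O))) ^ n := by
  obtain ⟨a, ha⟩ := Groth.Agent.UnramA.AdicEquiv.exists_algebraMap_sub_mem_map_pow
    (I := J) hfg n b
  exact ⟨a, by rw [← neg_sub]; exact Ideal.neg_mem_iff _ |>.2 ha⟩

variable (halg : ∀ a : O, algebraMap (AdicCompletion J O) (AdicCompletion J' O')
    (algebraMap O (AdicCompletion J O) a) =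
      algebraMap O' (AdicCompletion J' O') (algebraMap O O' a))

/-- the comparison `O^ ⊗ O' → O'^` -/
noncomputable def π : AdicCompletion J O ⊗[O] O' →ₐ[O] AdicCompletion J' O' :=
  Algebra.TensorProduct.productMap
    { algebraMap (AdicCompletion J O) (AdicCompletion J' O') with
      commutes' := fun a => (halg a).trans
        (IsScalarTower.algebraMap_apply O O' (AdicCompletion J' O') a).symm }
    (IsScalarTower.toAlgHom O O' (AdicCompletion J' O'))

theorem π_tmul (r : AdicCompletion J O) (b : O') :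
    π halg (r ⊗ₜ[O] b) = algebraMap (AdicCompletion J O) (AdicCompletion J' O') r *
      algebraMap O' (AdicCompletion J' O') b :=
  Algebra.TensorProduct.productMap_apply_tmul _ _ _ _

theorem π_algebraMap (r : AdicCompletion J O) :
    π halg (algebraMap (AdicCompletion J O) (AdicCompletion J O ⊗[O] O') r) =
      algebraMap (AdicCompletion J O) (AdicCompletion J' O') r := by
  rw [Algebra.TensorProduct.algebraMap_apply, Algebra.algebraMap_self, RingHom.id_apply, π_tmul,
    map_one, mul_one]

theorem π_ι (b : O') : π halg ((1 : AdicCompletion J O) ⊗ₜ[O] b) =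
    algebraMap O' (AdicCompletion J' O') b := by
  rw [π_tmul, map_one, one_mul]

variable (hJ : J' = J.map (algebraMap O O'))

/-- the map `O' → O^ ⊗ O'` -/
noncomputable abbrev ι : O' →+* AdicCompletion J O ⊗[O] O' :=
  (Algebra.TensorProduct.includeRight : O' →ₐ[O] AdicCompletion J O ⊗[O] O').toRingHom

variable (O' J) in
/-- the extended ideal -/
noncomputable abbrev J1 : Ideal (AdicCompletion J O ⊗[O] O') :=
  J.map (algebraMap O (AdicCompletion J O ⊗[O] O'))

include hJ in
theorem le_comap : J' ≤ (J1 O' J).comap (ι (J := J)) := by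
  rw [hJ, Ideal.map_le_iff_le_comap]
  intro a ha
  rw [Ideal.mem_comap, Ideal.mem_comap]
  have h1 : ι (J := J) (algebraMap O O' a) = algebraMap O (AdicCompletion J O ⊗[O] O') a :=
    (Algebra.TensorProduct.includeRight : O' →ₐ[O] AdicCompletion J O ⊗[O] O').commutes a
  rw [h1]
  exact Ideal.mem_map_of_mem _ ha

include hJ in
theorem evalₐ_π_eq_zero (n : ℕ) (x : AdicCompletion J O ⊗[O] O') (hx : x ∈ (J1 O' J) ^ n) :
    AdicCompletion.evalₐ J' n (π halg x) = 0 := by
  have h1 : (J1 O' J) ^ n ≤ RingHom.ker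
      ((AdicCompletion.evalₐ J' n : AdicCompletion J' O' →+* O' ⧸ J' ^ n).comp
        (π halg : AdicCompletion J O ⊗[O] O' →+* AdicCompletion J' O')) := by
    rw [← Ideal.map_pow, Ideal.map_le_iff_le_comap]
    intro a ha
    rw [Ideal.mem_comap, RingHom.mem_ker]
    change AdicCompletion.evalₐ J' n (π halg (algebraMap O _ a)) = 0
    rw [(π halg).commutes, IsScalarTower.algebraMap_apply O O' (AdicCompletion J' O')]
    refine (AdicCompletion.evalₐ J' n).commutes (algebraMap O O' a) |>.trans ?_
    change Ideal.Quotient.mk (J' ^ n) (algebraMap O O' a) = 0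
    rw [Ideal.Quotient.eq_zero_iff_mem, hJ, ← Ideal.map_pow]
    exact Ideal.mem_map_of_mem _ ha
  exact h1 hx

include halg hJ in
theorem mem_of_ι_mem (n : ℕ) (b : O') (hb : ι (J := J) b ∈ (J1 O' J) ^ n) : b ∈ J' ^ n := by
  have h1 := evalₐ_π_eq_zero halg hJ n _ hb
  have h2 : π halg (ι (J := J) b) = algebraMap O' (AdicCompletion J' O') b := π_ι halg b
  rw [h2] at h1
  have h3 := (AdicCompletion.evalₐ J' n).commutes b
  rw [h1] at h3
  rw [← Ideal.Quotient.eq_zero_iff_mem]
  exact h3.symm

theorem exists_ι_sub_mem (hfg : J.FG) (n : ℕ) (x : AdicCompletion J O ⊗[O] O') :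
    ∃ b : O', x - ι (J := J) b ∈ (J1 O' J) ^ n := by
  induction x using TensorProduct.induction_on with
  | zero => exact ⟨0, by rw [map_zero, sub_zero]; exact Ideal.zero_mem _⟩
  | add x y hx hy =>
    obtain ⟨b, hb⟩ := hx
    obtain ⟨c, hc⟩ := hy
    refine ⟨b + c, ?_⟩
    rw [map_add, add_sub_add_comm]
    exact Ideal.add_mem _ hb hc
  | tmul r b =>
    obtain ⟨a, ha⟩ := exists_approx hfg n r
    refine ⟨algebraMap O O' a * b, ?_⟩
    have h1 : r ⊗ₜ[O] b - ι (J := J) (algebraMap O O' a * b) =
        algebraMap (AdicCompletion J O) (AdicCompletion J O ⊗[O] O')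
          (r - algebraMap O (AdicCompletion J O) a) * ι (J := J) b := by
      rw [map_sub, sub_mul, map_mul]
      congr 1
      · change _ = (r ⊗ₜ[O] (1 : O')) * ((1 : AdicCompletion J O) ⊗ₜ[O] b)
        rw [Algebra.TensorProduct.tmul_mul_tmul, mul_one, one_mul]
      · congr 1
        rw [← IsScalarTower.algebraMap_apply]
        exact (Algebra.TensorProduct.includeRight :
          O' →ₐ[O] AdicCompletion J O ⊗[O] O').commutes a
    rw [h1]
    refine Ideal.mul_mem_right _ _ ?_
    have h2 : (J1 O' J) = (J.map (algebraMap O (AdicCompletion J O))).map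
        (algebraMap (AdicCompletion J O) (AdicCompletion J O ⊗[O] O')) := by
      rw [Ideal.map_map, ← IsScalarTower.algebraMap_eq]
    rw [h2, ← Ideal.map_pow]
    exact Ideal.mem_map_of_mem _ ha

include halg hJ in
/-- the completion of `O^ ⊗ O'` is `O'^` -/
theorem exists_ringEquiv (hfg : J.FG) :
    ∃ e : AdicCompletion J' O' ≃+* AdicCompletion (J1 O' J) (AdicCompletion J O ⊗[O] O'),
      ∀ x, e (π halg x) = algebraMap _ _ x := by
  obtain ⟨e, he⟩ := Groth.Agent.CurvesB.EtaleCompl.exists_completion_ringEquiv (ι (J := J)) J'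
    (J1 O' J) (le_comap hJ) (mem_of_ι_mem halg hJ) (exists_ι_sub_mem hfg)
  refine ⟨e, fun x => ?_⟩
  let C := AdicCompletion (J1 O' J) (AdicCompletion J O ⊗[O] O')
  have hfg1 : (J1 O' J).FG := hfg.map _
  have hcomp : IsAdicComplete ((J1 O' J).map (algebraMap _ C)) C :=
    AdicCompletion.isAdicComplete_self _ hfg1
  have hfg' : J'.FG := by rw [hJ]; exact hfg.map _
  rw [← sub_eq_zero]
  refine IsHausdorff.haus (I := (J1 O' J).map (algebraMap _ C)) inferInstance _ fun n => ?_
  rw [SModEq.zero, smul_eq_mul, Ideal.mul_top, ← Ideal.map_pow]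
  obtain ⟨b, hb⟩ := exists_ι_sub_mem (O' := O') hfg n x
  have h1 : e (π halg x) - algebraMap _ C x =
      e (π halg (x - ι (J := J) b)) - algebraMap _ C (x - ι (J := J) b) := by
    have h2 : π halg (ι (J := J) b) = algebraMap O' (AdicCompletion J' O') b := π_ι halg b
    rw [map_sub, map_sub, map_sub, h2, he]
    ring
  rw [h1]
  refine Ideal.sub_mem _ ?_ (Ideal.mem_map_of_mem _ hb)
  have h3 : (J1 O' J) ^ n ≤ (((J1 O' J) ^ n).map (algebraMap _ C)).comap
      ((e : AdicCompletion J' O' →+* C).comp
        (π halg : AdicCompletion J O ⊗[O] O' →+* AdicCompletion J' O')) := by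
    rw [← Ideal.map_pow, Ideal.map_le_iff_le_comap]
    intro a ha
    rw [Ideal.mem_comap, Ideal.mem_comap]
    change e (π halg (algebraMap O _ a)) ∈ _
    rw [(π halg).commutes, IsScalarTower.algebraMap_apply O O' (AdicCompletion J' O'), he]
    refine Ideal.mem_map_of_mem _ ?_
    have h4 : ι (J := J) (algebraMap O O' a) = algebraMap O (AdicCompletion J O ⊗[O] O') a :=
      (Algebra.TensorProduct.includeRight : O' →ₐ[O] AdicCompletion J O ⊗[O] O').commutes a
    rw [h4]
    exact Ideal.mem_map_of_mem _ ha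
  exact h3 hb

end K710.CplBC
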