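import Groth.Agent.CycB.SetupLft
import Groth.Agent.LoccohA.CutoffLoc
import Mathlib.RingTheory.AlgebraicIndependent.Transcendental

/-!
# The dimension formula for algebras essentially of finite type which are birational at a prime
-/

set_option autoImplicit false
universe u

open CategoryTheory

namespace K710.DimEq

open Groth.Agent.Ega4B.CatHeight Groth.Agent.CalgA.CatOrder Groth.Agent.LoccohA.CutoffLoc

theorem rlen_comap_of_isLocalization {B S : Type u} [CommRing B] [CommRing S] [Algebra B S]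
    (M : Submonoid B) [IsLocalization M S] (P Q : PrimeSpectrum S) :
    rlen (PrimeSpectrum.comap (algebraMap B S) P) (PrimeSpectrum.comap (algebraMap B S) Q) =
      rlen P Q := by
  refine rlen_embedding (comapLoc (S := S) M) ?_ P Q
  intro a b hab
  rw [range_comapLoc]
  have hb : comapLoc (S := S) M b ∈ Set.range (comapLoc (S := S) M) := ⟨b, rfl⟩
  rw [range_comapLoc] at hb
  exact Set.disjoint_of_subset_right hab hb

theorem frac_residue {S : Type u} [CommRing S] (p : Ideal S) [p.IsPrime] (k : p.ResidueField) :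
    ∃ a b : S, algebraMap S p.ResidueField b ≠ 0 ∧
      k = algebraMap S p.ResidueField a / algebraMap S p.ResidueField b := by
  obtain ⟨a, b, hb, rfl⟩ := IsFractionRing.div_surjective (A := S ⧸ p) k
  obtain ⟨a, rfl⟩ := Ideal.Quotient.mk_surjective a
  obtain ⟨b, rfl⟩ := Ideal.Quotient.mk_surjective b
  refine ⟨a, b, ?_, rfl⟩
  intro h
  rw [Ideal.algebraMap_residueField_eq_zero] at h
  exact nonZeroDivisors.ne_zero hb (Ideal.Quotient.eq_zero_iff_mem.2 h)

theorem frac_of_isLocalization {B S L : Type u} [CommRing B] [CommRing S] [Algebra B S] [Field L]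
    (M : Submonoid B) [IsLocalization M S] (ψ : S →+* L)
    (h : ∀ k : L, ∃ a b : S, ψ b ≠ 0 ∧ k = ψ a / ψ b) (k : L) :
    ∃ a b : B, ψ (algebraMap B S b) ≠ 0 ∧ k = ψ (algebraMap B S a) / ψ (algebraMap B S b) := by
  obtain ⟨x, y, hy, rfl⟩ := h k
  obtain ⟨⟨a, s⟩, ha⟩ := IsLocalization.surj M x
  obtain ⟨⟨b, t⟩, hb⟩ := IsLocalization.surj M y
  dsimp only at ha hb
  have hs : ψ (algebraMap B S s) ≠ 0 := ((IsLocalization.map_units S s).map ψ).ne_zero
  have ht : ψ (algebraMap B S t) ≠ 0 := ((IsLocalization.map_units S t).map ψ).ne_zero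
  refine ⟨a * t, b * s, ?_, ?_⟩
  · rw [map_mul, map_mul, ← hb, map_mul]
    exact mul_ne_zero (mul_ne_zero hy ht) hs
  · rw [map_mul, map_mul, map_mul, map_mul, ← hb, ← ha, map_mul, map_mul]
    field_simp

/-- **Dimension formula.** -/
theorem dim_formula {R R1 : Type u} [CommRing R] [CommRing R1] [Algebra R R1] [IsNoetherianRing R]
    [Algebra.EssFiniteType R R1] (hR : CAlg.IsUniversallyCatenary R) (p1 q1 : PrimeSpectrum R1)
    (h : p1 ≤ q1) {Kq LQ : Type u} [Field Kq] [Field LQ] (φ : R →+* Kq) (ψ : R1 →+* LQ)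
    (j : Kq →+* LQ) (hQ : q1.asIdeal = RingHom.ker ψ) (comm : j.comp φ = ψ.comp (algebraMap R R1))
    (h2 : ∀ k : Kq, ∃ a b : R, φ b ≠ 0 ∧ k = φ a / φ b)
    (h4 : ∀ k : LQ, ∃ a b : R1, ψ b ≠ 0 ∧ k = ψ a / ψ b)
    (hb : Function.Bijective (Localization.localRingHom (p1.asIdeal.comap (algebraMap R R1))
      p1.asIdeal (algebraMap R R1) rfl))
    (t : ℕ) (ht : (letI := j.toAlgebra; Algebra.trdeg Kq LQ) = t) :
    rlen p1 q1 + t = rlen (PrimeSpectrum.comap (algebraMap R R1) p1)
      (PrimeSpectrum.comap (algebraMap R R1) q1) := by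
  let B := Algebra.EssFiniteType.subalgebra R R1
  have hloc : IsLocalization (Algebra.EssFiniteType.submonoid R R1) R1 := inferInstance
  let P : PrimeSpectrum R := PrimeSpectrum.comap (algebraMap R R1) p1
  let Q : PrimeSpectrum R := PrimeSpectrum.comap (algebraMap R R1) q1
  let PB : PrimeSpectrum B := PrimeSpectrum.comap (algebraMap B R1) p1
  let QB : PrimeSpectrum B := PrimeSpectrum.comap (algebraMap B R1) q1
  let i : P.asIdeal.ResidueField →+* p1.asIdeal.ResidueField :=
    Ideal.ResidueField.map P.asIdeal p1.asIdeal (algebraMap R R1) rfl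
  have hi : ∀ r, i (algebraMap R _ r) = algebraMap R1 _ (algebraMap R R1 r) := fun r =>
    Ideal.ResidueField.map_algebraMap _ _ _ _ _
  have hPB : PB.asIdeal = RingHom.ker ((algebraMap R1 p1.asIdeal.ResidueField).comp
      (algebraMap B R1)) := by
    ext x
    change algebraMap B R1 x ∈ p1.asIdeal ↔ algebraMap R1 p1.asIdeal.ResidueField
      (algebraMap B R1 x) = 0
    rw [Ideal.algebraMap_residueField_eq_zero]
  have hQB : QB.asIdeal = RingHom.ker (ψ.comp (algebraMap B R1)) := by
    ext x
    change algebraMap B R1 x ∈ q1.asIdeal ↔ ψ (algebraMap B R1 x) = 0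
    rw [hQ]
    rfl
  have hPk : P.asIdeal = RingHom.ker (algebraMap R P.asIdeal.ResidueField) := by
    ext x
    change x ∈ P.asIdeal ↔ algebraMap R P.asIdeal.ResidueField x = 0
    rw [Ideal.algebraMap_residueField_eq_zero]
  have hQk : Q.asIdeal = RingHom.ker φ := by
    ext x
    change algebraMap R R1 x ∈ q1.asIdeal ↔ φ x = 0
    rw [hQ, RingHom.mem_ker, ← map_eq_zero j]
    exact (RingHom.congr_fun comm x ▸ Iff.rfl)
  have key := Groth.Agent.CycB.SetupLft.dimension_formula' (A := R) (B := B) hR P.asIdeal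
    Q.asIdeal PB.asIdeal QB.asIdeal (algebraMap R P.asIdeal.ResidueField) φ
    ((algebraMap R1 p1.asIdeal.ResidueField).comp (algebraMap B R1)) (ψ.comp (algebraMap B R1)) i j
    hPk hQk hPB hQB (RingHom.ext fun r => hi r) comm (fun x hx => h hx) (frac_residue _) h2
    (frac_of_isLocalization (B := B) (S := R1) (Algebra.EssFiniteType.submonoid R R1)
      (algebraMap R1 p1.asIdeal.ResidueField) (frac_residue p1.asIdeal))
    (frac_of_isLocalization (B := B) (S := R1) (Algebra.EssFiniteType.submonoid R R1) ψ h4)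
  have hib : Function.Bijective i := by
    exact ⟨i.injective, Ideal.Quotient.lift_surjective_of_surjective _ _
      (Ideal.Quotient.mk_surjective.comp hb.2)⟩
  have htr : (letI := i.toAlgebra; Algebra.trdeg P.asIdeal.ResidueField
      p1.asIdeal.ResidueField) = 0 := by
    let := i.toAlgebra
    have halg : Algebra.IsAlgebraic P.asIdeal.ResidueField p1.asIdeal.ResidueField :=
      ⟨fun x => by
        obtain ⟨y, rfl⟩ := hib.2 x
        exact isAlgebraic_algebraMap y⟩
    exact _root_.trdeg_eq_zero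
  rw [htr, ht, add_zero] at key
  have e1 : (QB.asIdeal.map (Ideal.Quotient.mk PB.asIdeal)).height = rlen p1 q1 := by
    rw [height_map_mk PB.asIdeal QB.asIdeal (fun x hx => h hx)]
    exact rlen_comap_of_isLocalization (Algebra.EssFiniteType.submonoid R R1) p1 q1
  have e2 : (Q.asIdeal.map (Ideal.Quotient.mk P.asIdeal)).height = rlen P Q :=
    height_map_mk P.asIdeal Q.asIdeal (fun x hx => h hx)
  rw [e1, e2] at key
  have hfin : rlen P Q ≠ ⊤ := by
    have h1 := rlen_le_height P Q
    exact ne_top_of_le_ne_top (Ideal.height_ne_top Q.2.ne_top) h1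
  obtain ⟨n, hn⟩ := ENat.ne_top_iff_exists.1 hfin
  change _ = rlen P Q
  rw [← hn] at key ⊢
  generalize rlen p1 q1 = m at key ⊢
  induction m using ENat.recTopCoe with
  | top =>
    exfalso
    have : ((⊤ : ℕ∞) : Cardinal.{u}) = Cardinal.aleph0 := rfl
    rw [this] at key
    have h2 : Cardinal.aleph0.{u} ≤ Cardinal.aleph0 + (t : Cardinal.{u}) := le_self_add
    rw [key] at h2
    have h3 : ((n : ℕ∞) : Cardinal.{u}) < Cardinal.aleph0 := by
      rw [Cardinal.ofENat_nat]
      exact Cardinal.natCast_lt_aleph0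
    exact absurd h2 (not_le.2 h3)
  | coe m =>
    have h2 : m + t = n := by exact_mod_cast key
    exact_mod_cast h2

end K710.DimEq
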