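import Groth.Agent.Flat2D.FlatAtPt
import Mathlib.AlgebraicGeometry.AffineScheme
import Mathlib.AlgebraicGeometry.Restrict
import Mathlib.AlgebraicGeometry.Stalk

/-!
# Local rings of the local rings, for a morphism which is an isomorphism near a point
-/

set_option autoImplicit false
universe u

open CategoryTheory AlgebraicGeometry

namespace K710.Geo

theorem bijective_localRingHom {X X' : Scheme.{u}} (b : X' ⟶ X) (y' : X')
    (p' : PrimeSpectrum (X'.presheaf.stalk y'))
    (h : IsIso (b.stalkMap ((X'.fromSpecStalk y') p'))) :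
    Function.Bijective (Localization.localRingHom (p'.asIdeal.comap (b.stalkMap y').hom)
      p'.asIdeal (b.stalkMap y').hom rfl) := by
  have h1 : Spec.map (b.stalkMap y') ≫ X.fromSpecStalk (b y') = X'.fromSpecStalk y' ≫ b :=
    Scheme.SpecMap_stalkMap_fromSpecStalk b
  have h2 : IsIso ((Spec.map (b.stalkMap y') ≫ X.fromSpecStalk (b y')).stalkMap p') := by
    rw [h1, Scheme.Hom.stalkMap_comp]
    have i2 : IsIso ((X'.fromSpecStalk y').stalkMap p') := inferInstance
    exact @IsIso.comp_isIso _ _ _ _ _ _ _ h i2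
  rw [Scheme.Hom.stalkMap_comp] at h2
  have h3 : IsIso ((Spec.map (b.stalkMap y')).stalkMap p') :=
    @IsIso.of_isIso_comp_left _ _ _ _ _ _ _ 
      (Groth.Agent.Flat2D.FlatAtPt.isIso_stalkMap_fromSpecStalk _ _ _) h2
  have h4 := ((MorphismProperty.isomorphisms CommRingCat).arrow_mk_iso_iff
    (Scheme.arrowStalkMapSpecIso (b.stalkMap y') p')).1 h3
  exact (ConcreteCategory.isIso_iff_bijective _).1 h4

theorem isIso_stalkMap {X X' : Scheme.{u}} (b : X' ⟶ X) (V : X.Opens) (h : IsIso (b ∣_ V)) (x : X')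
    (hx : b x ∈ V) : IsIso (b.stalkMap x) := by
  have h1 : IsIso ((b ∣_ V).stalkMap ⟨x, hx⟩) := inferInstance
  exact ((MorphismProperty.isomorphisms CommRingCat).arrow_mk_iso_iff
    (morphismRestrictStalkMap b V ⟨x, hx⟩)).1 h1

end K710.Geo
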