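import Mathlib.RingTheory.Localization.AtPrime.Basic
import Mathlib.RingTheory.TensorProduct.Maps

/-!
# Local isomorphisms and base change

If `O_p → O'_{p'}` is bijective then so is `R_P → (R ⊗_O O')_{p1}` for `p1` over `p'`.
-/

set_option autoImplicit false
universe u

open TensorProduct

namespace K710.LocIso

theorem bijective_tensor {O O' R : Type u} [CommRing O] [CommRing O'] [CommRing R] [Algebra O O']
    [Algebra O R] (p1 : Ideal (R ⊗[O] O')) [p1.IsPrime] (p : Ideal O) (p' : Ideal O') (P : Ideal R)
    [p.IsPrime] [p'.IsPrime] [P.IsPrime] (hp : p = p'.comap (algebraMap O O'))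
    (hp' : p' = p1.comap (Algebra.TensorProduct.includeRight : O' →ₐ[O] R ⊗[O] O').toRingHom)
    (hP : P = p1.comap (algebraMap R (R ⊗[O] O')))
    (h : Function.Bijective (Localization.localRingHom p p' (algebraMap O O') hp)) :
    Function.Bijective (Localization.localRingHom P p1 (algebraMap R (R ⊗[O] O')) hP) := by
  let ι : O' →+* R ⊗[O] O' :=
    (Algebra.TensorProduct.includeRight : O' →ₐ[O] R ⊗[O] O').toRingHom
  let α : R →+* R ⊗[O] O' := algebraMap R (R ⊗[O] O')
  have hcomm : α.comp (algebraMap O R) = ι.comp (algebraMap O O') := by
    ext x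
    change algebraMap R (R ⊗[O] O') (algebraMap O R x) = (1 : R) ⊗ₜ[O] (algebraMap O O' x)
    rw [Algebra.TensorProduct.algebraMap_apply, Algebra.algebraMap_self, RingHom.id_apply,
      Algebra.algebraMap_eq_smul_one, TensorProduct.smul_tmul, ← Algebra.algebraMap_eq_smul_one]
  have hpP : p = P.comap (algebraMap O R) := by
    rw [hP, Ideal.comap_comap, hp, hp', Ideal.comap_comap]
    change p1.comap (ι.comp (algebraMap O O')) = p1.comap (α.comp (algebraMap O R))
    rw [hcomm]
  let β : Localization.AtPrime p →+* Localization.AtPrime p' :=
    Localization.localRingHom p p' (algebraMap O O') hp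
  let e : Localization.AtPrime p ≃+* Localization.AtPrime p' := RingEquiv.ofBijective β h
  let γ : Localization.AtPrime p →+* Localization.AtPrime P :=
    Localization.localRingHom p P (algebraMap O R) hpP
  let δ : Localization.AtPrime p' →+* Localization.AtPrime p1 :=
    Localization.localRingHom p' p1 ι hp'
  let lam : Localization.AtPrime P →+* Localization.AtPrime p1 :=
    Localization.localRingHom P p1 α hP
  have hsq : lam.comp γ = δ.comp β := by
    refine IsLocalization.ringHom_ext p.primeCompl (RingHom.ext fun x => ?_)
    change lam (γ (algebraMap O _ x)) = δ (β (algebraMap O _ x))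
    rw [Localization.localRingHom_to_map, Localization.localRingHom_to_map,
      Localization.localRingHom_to_map, Localization.localRingHom_to_map]
    congr 1
    exact RingHom.congr_fun hcomm x
  let κ : O' →+* Localization.AtPrime P :=
    (γ.comp (e.symm : Localization.AtPrime p' →+* Localization.AtPrime p)).comp
      (algebraMap O' (Localization.AtPrime p'))
  have hκ : ∀ x : O, κ (algebraMap O O' x) = algebraMap O (Localization.AtPrime P) x := by
    intro x
    change γ (e.symm (algebraMap O' _ (algebraMap O O' x))) = _
    have h1 : algebraMap O' (Localization.AtPrime p') (algebraMap O O' x) =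
        e (algebraMap O _ x) := (Localization.localRingHom_to_map p p' _ hp x).symm
    rw [h1, e.symm_apply_apply, Localization.localRingHom_to_map,
      ← IsScalarTower.algebraMap_apply]
  let κ' : O' →ₐ[O] Localization.AtPrime P := { κ with commutes' := hκ }
  let ψ : R ⊗[O] O' →ₐ[O] Localization.AtPrime P :=
    Algebra.TensorProduct.productMap (IsScalarTower.toAlgHom O R (Localization.AtPrime P)) κ'
  have hψl : ∀ r : R, ψ (algebraMap R (R ⊗[O] O') r) = algebraMap R _ r := by
    intro r
    rw [Algebra.TensorProduct.algebraMap_apply, Algebra.algebraMap_self, RingHom.id_apply]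
    change Algebra.TensorProduct.productMap (IsScalarTower.toAlgHom O R (Localization.AtPrime P)) κ'
      (r ⊗ₜ[O] (1 : O')) = _
    rw [Algebra.TensorProduct.productMap_apply_tmul, map_one, mul_one]
    rfl
  have hlψ : ∀ x, lam (ψ x) = algebraMap (R ⊗[O] O') (Localization.AtPrime p1) x := by
    intro x
    induction x using TensorProduct.induction_on with
    | zero => rw [map_zero, map_zero, map_zero]
    | add x y hx hy => rw [map_add, map_add, hx, hy, map_add]
    | tmul r b =>
      change lam (Algebra.TensorProduct.productMap
        (IsScalarTower.toAlgHom O R (Localization.AtPrime P)) κ' (r ⊗ₜ[O] b)) = _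
      rw [Algebra.TensorProduct.productMap_apply_tmul, map_mul]
      have h1 : lam (algebraMap R _ r) = algebraMap _ _ (α r) :=
        Localization.localRingHom_to_map P p1 α hP r
      have h2 : lam (κ b) = algebraMap _ _ (ι b) := by
        change lam (γ (e.symm (algebraMap O' _ b))) = _
        have h3 := RingHom.congr_fun hsq (e.symm (algebraMap O' _ b))
        change lam (γ _) = δ (e (e.symm _)) at h3
        rw [h3, e.apply_symm_apply]
        exact Localization.localRingHom_to_map p' p1 ι hp' b
      change lam (algebraMap R _ r) * lam (κ b) = _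
      rw [h1, h2, ← map_mul]
      congr 1
      change algebraMap R (R ⊗[O] O') r * ((1 : R) ⊗ₜ[O] b) = _
      rw [Algebra.TensorProduct.algebraMap_apply, Algebra.algebraMap_self, RingHom.id_apply,
        Algebra.TensorProduct.tmul_mul_tmul, mul_one, one_mul]
  have hloc : IsLocalHom lam := Localization.isLocalHom_localRingHom P p1 α hP
  let ψ' : Localization.AtPrime p1 →+* Localization.AtPrime P :=
    IsLocalization.lift (M := p1.primeCompl) (g := (ψ : R ⊗[O] O' →+* Localization.AtPrime P))
      (fun s => by
        refine (isUnit_map_iff lam _).1 ?_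
        change IsUnit (lam (ψ s))
        rw [hlψ]
        exact IsLocalization.map_units _ s)
  have hψ' : ∀ x, ψ' (algebraMap _ _ x) = ψ x := fun x => IsLocalization.lift_eq _ x
  have e1 : lam.comp ψ' = RingHom.id _ := by
    refine IsLocalization.ringHom_ext p1.primeCompl (RingHom.ext fun x => ?_)
    change lam (ψ' (algebraMap _ _ x)) = _
    rw [hψ', hlψ]
    rfl
  have e2 : ψ'.comp lam = RingHom.id _ := by
    refine IsLocalization.ringHom_ext P.primeCompl (RingHom.ext fun x => ?_)
    change ψ' (lam (algebraMap _ _ x)) = algebraMap R _ x
    have h1 : lam (algebraMap R _ x) = algebraMap _ _ (α x) :=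
        Localization.localRingHom_to_map P p1 α hP x
    rw [h1, hψ']
    exact hψl x
  exact Function.bijective_iff_has_inverse.2 ⟨ψ', fun x => RingHom.congr_fun e2 x,
    fun x => RingHom.congr_fun e1 x⟩

end K710.LocIso
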