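import Groth.Prelude.Def_Algz2
import Groth.Agent.Algz.K710.LocIso
import Groth.Agent.Algz.K710.DimEq
import Groth.Agent.Algz.K710.CplBC
import Groth.Agent.Dual2.K710.CplLoc
import Groth.Agent.Algz.K572.Dist2
import Groth.Agent.LoccohA.EquidimS2
import Groth.Agent.S0377
import Groth.Agent.S1721
import Groth.Agent.S1779

/-!
# Depth and dimension on completed local rings: base change along a modification, local form
-/

set_option autoImplicit false
universe u

open CategoryTheory TensorProduct

namespace K710.HatLoc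

open Groth.Agent.Ega4B.CatHeight K710.CplBC

theorem coheight_eq_rlen {A : Type u} [CommRing A] [IsLocalRing A] (p : PrimeSpectrum A) :
    Order.coheight p = rlen p (IsLocalRing.closedPoint A) := by
  have h1 := K572.Dist2.coheight_eq_ringKrullDim p
  rw [Groth.Agent.LoccohA.EquidimS2.ringKrullDim_quotient_eq_rlen] at h1
  exact_mod_cast h1

/-- depth is unchanged under base change which is bijective on the local rings -/
theorem depthAt_eq_of_bijective {R R1 : Type u} [CommRing R] [CommRing R1] [Algebra R R1]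
    (p1 : PrimeSpectrum R1) (hb : Function.Bijective (Localization.localRingHom
      (p1.asIdeal.comap (algebraMap R R1)) p1.asIdeal (algebraMap R R1) rfl))
    {L M : Type u} [AddCommGroup L] [Module R L] [AddCommGroup M] [Module R M] [Module R1 M]
    [IsScalarTower R R1 M] (f : L →ₗ[R] M) (hf : IsBaseChange R1 f) :
    Algz.depthAt (PrimeSpectrum.comap (algebraMap R R1) p1) L = Algz.depthAt p1 M := by
  let P : PrimeSpectrum R := PrimeSpectrum.comap (algebraMap R R1) p1
  let alg : Algebra (Localization.AtPrime P.asIdeal) (Localization.AtPrime p1.asIdeal) :=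
    (Localization.localRingHom P.asIdeal p1.asIdeal (algebraMap R R1) rfl).toAlgebra
  have halg : algebraMap (Localization.AtPrime P.asIdeal) (Localization.AtPrime p1.asIdeal) =
    Localization.localRingHom P.asIdeal p1.asIdeal (algebraMap R R1) rfl := rfl
  have tow : IsScalarTower R (Localization.AtPrime P.asIdeal) (Localization.AtPrime p1.asIdeal) :=
    IsScalarTower.of_algebraMap_eq fun x => by
      rw [halg, Localization.localRingHom_to_map, ← IsScalarTower.algebraMap_apply]
  obtain ⟨m1, t1, g, hg⟩ := K710.CplLoc.exists_localized P.asIdeal p1.asIdeal rfl f hf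
  have hbg := K710.CplLoc.bijective_of_isBaseChange (C := Localization.AtPrime P.asIdeal)
    (C' := Localization.AtPrime p1.asIdeal) hb g hg
  exact Groth.Agent.Ega4dB.DepthOpen.depth_congr_semilinear
    (RingEquiv.ofBijective (Localization.localRingHom P.asIdeal p1.asIdeal (algebraMap R R1) rfl) hb)
    (AddEquiv.ofBijective g.toAddMonoidHom hbg) (fun r m => by
      change g (r • m) = (algebraMap (Localization.AtPrime P.asIdeal)
        (Localization.AtPrime p1.asIdeal) r) • g m
      rw [map_smul, algebraMap_smul])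

section Res

variable {O : Type u} [CommRing O] [IsLocalRing O] {J : Ideal O}
  (hJ : J ≤ IsLocalRing.maximalIdeal O)

/-- the residue map of the completion -/
noncomputable def res : AdicCompletion J O →+* IsLocalRing.ResidueField O :=
  (Ideal.Quotient.lift J (IsLocalRing.residue O) (fun a ha =>
    (IsLocalRing.residue_eq_zero_iff a).2 (hJ ha))).comp
    (AdicCompletion.evalOneₐ J : AdicCompletion J O →+* O ⧸ J)

theorem res_algebraMap (a : O) : res hJ (algebraMap O (AdicCompletion J O) a) =
    IsLocalRing.residue O a := by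
  have h1 : AdicCompletion.evalOneₐ J (algebraMap O (AdicCompletion J O) a) =
    Ideal.Quotient.mk J a := (AdicCompletion.evalOneₐ J).commutes a
  change Ideal.Quotient.lift J (IsLocalRing.residue O) (fun a ha =>
    (IsLocalRing.residue_eq_zero_iff a).2 (hJ ha))
    (AdicCompletion.evalOneₐ J (algebraMap O (AdicCompletion J O) a)) = _
  rw [h1, Ideal.Quotient.lift_mk]

theorem res_surjective : Function.Surjective (res hJ) := fun k => by
  obtain ⟨a, rfl⟩ := IsLocalRing.residue_surjective k
  exact ⟨algebraMap O _ a, res_algebraMap hJ a⟩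

theorem res_eq_zero (x : AdicCompletion J O)
    (hx : x ∈ J.map (algebraMap O (AdicCompletion J O))) : res hJ x = 0 := by
  have h1 : J.map (algebraMap O (AdicCompletion J O)) ≤ RingHom.ker (res hJ) := by
    rw [Ideal.map_le_iff_le_comap]
    intro a ha
    rw [Ideal.mem_comap, RingHom.mem_ker, res_algebraMap, IsLocalRing.residue_eq_zero_iff]
    exact hJ ha
  exact h1 hx

theorem ker_res [IsLocalRing (AdicCompletion J O)] :
    RingHom.ker (res hJ) = IsLocalRing.maximalIdeal (AdicCompletion J O) :=
  IsLocalRing.eq_maximalIdeal (RingHom.ker_isMaximal_of_surjective _ (res_surjective hJ))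

end Res

theorem rlen_comap_ringEquiv {B B' : Type u} [CommRing B] [CommRing B'] (e : B ≃+* B')
    (P Q : PrimeSpectrum B') :
    rlen (PrimeSpectrum.comap (e : B →+* B') P) (PrimeSpectrum.comap (e : B →+* B') Q) =
      rlen P Q := by
  refine Groth.Agent.LoccohA.CutoffLoc.rlen_embedding
    (PrimeSpectrum.comapEquiv e.symm).toOrderEmbedding ?_ P Q
  intro a b _
  exact ⟨(PrimeSpectrum.comapEquiv e.symm).symm a, (PrimeSpectrum.comapEquiv e.symm).apply_symm_apply a⟩

/-- the depths on the completion of `O^ ⊗ O'` and on `O'^` -/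
theorem depth_transport {R R1 R' : Type u} [CommRing R] [CommRing R1] [CommRing R'] [Algebra R R1]
    [IsNoetherianRing R1] [Algebra R R'] (I : Ideal R1) (e : R' ≃+* AdicCompletion I R1)
    (he : ∀ r : R, e.symm (algebraMap R (AdicCompletion I R1) r) = algebraMap R R' r)
    {L L' : Type u} [AddCommGroup L] [Module R L] [Module.Finite R L] [AddCommGroup L'] [Module R L']
    [Module R' L'] [IsScalarTower R R' L'] (g : L →ₗ[R] L') (hg : IsBaseChange R' g)
    (P' : PrimeSpectrum R') :
    Algz.depthAt (PrimeSpectrum.comap (e.symm : AdicCompletion I R1 →+* R') P')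
      (AdicCompletion I (R1 ⊗[R] L)) = Algz.depthAt P' L' := by
  let C := AdicCompletion I R1
  let aCR : Algebra C R' := (e.symm : C →+* R').toAlgebra
  have haCR : algebraMap C R' = (e.symm : C →+* R') := rfl
  have t1 : IsScalarTower R C R' := IsScalarTower.of_algebraMap_eq fun x => by
    rw [haCR]
    exact (he x).symm
  let mC : Module C L' := Module.compHom _ (e.symm : C →+* R')
  have tC : IsScalarTower C R' L' := IsScalarTower.of_algebraMap_smul fun r x => rfl
  have t2 : IsScalarTower R C L' := IsScalarTower.of_algebraMap_smul fun r x => by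
    rw [← algebraMap_smul R' (algebraMap R C r) x, ← IsScalarTower.algebraMap_apply R C R',
      algebraMap_smul]
  have t3 : IsScalarTower R R1 (AdicCompletion I (R1 ⊗[R] L)) := inferInstance
  have t4 : IsScalarTower R1 C (AdicCompletion I (R1 ⊗[R] L)) := inferInstance
  have t5 : IsScalarTower R C (AdicCompletion I (R1 ⊗[R] L)) :=
    IsScalarTower.of_algebraMap_smul fun r x => by
      rw [IsScalarTower.algebraMap_apply R R1 C, algebraMap_smul, algebraMap_smul]
  have h1 : IsBaseChange R1 (TensorProduct.mk R R1 L 1) := TensorProduct.isBaseChange R L R1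
  have h2 : IsBaseChange C (AdicCompletion.of I (R1 ⊗[R] L)) := K710.CplLoc.isBaseChange_of I _
  have h3 : IsBaseChange C ((AdicCompletion.of I (R1 ⊗[R] L)).restrictScalars R ∘ₗ
      (TensorProduct.mk R R1 L 1)) := IsBaseChange.comp h1 h2
  let ψ : AdicCompletion I (R1 ⊗[R] L) →ₗ[C] L' := h3.lift g
  have hψ1 : (ψ.restrictScalars R) ∘ₗ ((AdicCompletion.of I (R1 ⊗[R] L)).restrictScalars R ∘ₗ
      (TensorProduct.mk R R1 L 1)) = g := by
    ext x : 1
    exact h3.lift_eq _ x
  have hψ : IsBaseChange R' ψ := by
    refine IsBaseChange.of_comp h3 ?_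
    rw [show (ψ : AdicCompletion I (R1 ⊗[R] L) →ₗ[R] L') ∘ₗ
      ((AdicCompletion.of I (R1 ⊗[R] L)).restrictScalars R ∘ₗ (TensorProduct.mk R R1 L 1)) = g
        from hψ1]
    exact hg
  have hbij := K710.CplLoc.bijective_of_isBaseChange (C := C) (C' := R') e.symm.bijective ψ hψ
  exact K710.CplLoc.depth_transport e.symm ψ (map_add ψ) (map_smul ψ) hbij P'

theorem res_map {O O' : Type u} [CommRing O] [CommRing O'] [Algebra O O'] [IsLocalRing O]
    [IsLocalRing O'] [IsLocalHom (algebraMap O O')] {J : Ideal O} {J' : Ideal O'}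
    [Algebra (AdicCompletion J O) (AdicCompletion J' O')] (hfg : J.FG)
    (hJm : J ≤ IsLocalRing.maximalIdeal O) (hJm' : J' ≤ IsLocalRing.maximalIdeal O')
    (hJ : J' = J.map (algebraMap O O'))
    (halg : ∀ a : O, algebraMap (AdicCompletion J O) (AdicCompletion J' O')
      (algebraMap O (AdicCompletion J O) a) =
        algebraMap O' (AdicCompletion J' O') (algebraMap O O' a)) (x : AdicCompletion J O) :
    res hJm' (algebraMap (AdicCompletion J O) (AdicCompletion J' O') x) =
      IsLocalRing.ResidueField.map (algebraMap O O') (res hJm x) := by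
  obtain ⟨a, ha⟩ := exists_approx hfg 1 x
  rw [pow_one] at ha
  have h1 : res hJm x = IsLocalRing.residue O a := by
    have h2 := res_eq_zero hJm _ ha
    rw [map_sub, sub_eq_zero, res_algebraMap] at h2
    exact h2
  rw [h1, IsLocalRing.ResidueField.map_residue, ← res_algebraMap hJm', ← halg, ← sub_eq_zero,
    ← map_sub, ← map_sub]
  refine res_eq_zero hJm' _ ?_
  have h3 : J.map (algebraMap O (AdicCompletion J O)) ≤
      (J'.map (algebraMap O' (AdicCompletion J' O'))).comap
        (algebraMap (AdicCompletion J O) (AdicCompletion J' O')) := by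
    rw [Ideal.map_le_iff_le_comap]
    intro b hb
    rw [Ideal.mem_comap, Ideal.mem_comap, halg]
    refine Ideal.mem_map_of_mem _ ?_
    rw [hJ]
    exact Ideal.mem_map_of_mem _ hb
  exact h3 ha

variable {O O' : Type u} [CommRing O] [CommRing O'] [Algebra O O'] [IsNoetherianRing O]
  [IsNoetherianRing O'] [IsLocalRing O] [IsLocalRing O'] [IsLocalHom (algebraMap O O')]
  [Algebra.EssFiniteType O O'] {J : Ideal O} {J' : Ideal O'}
  [Algebra (AdicCompletion J O) (AdicCompletion J' O')]

/-- **[HAT], local form** -/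
theorem main (hJm : J ≤ IsLocalRing.maximalIdeal O) (hJ : J' = J.map (algebraMap O O'))
    (halg : ∀ a : O, algebraMap (AdicCompletion J O) (AdicCompletion J' O')
      (algebraMap O (AdicCompletion J O) a) =
        algebraMap O' (AdicCompletion J' O') (algebraMap O O' a))
    (hdc : ∃ ω : Dual.D O, Dual.IsDualizing O ω)
    (H : ∀ p' : PrimeSpectrum O', ¬ J' ≤ p'.asIdeal → Function.Bijective
      (Localization.localRingHom (p'.asIdeal.comap (algebraMap O O')) p'.asIdeal
        (algebraMap O O') rfl))
    (t : ℕ) (ht : (letI := (IsLocalRing.ResidueField.map (algebraMap O O')).toAlgebra;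
      Algebra.trdeg (IsLocalRing.ResidueField O) (IsLocalRing.ResidueField O')) = t)
    {L L' : Type u} [AddCommGroup L] [Module (AdicCompletion J O) L]
    [Module.Finite (AdicCompletion J O) L] [AddCommGroup L'] [Module (AdicCompletion J O) L']
    [Module (AdicCompletion J' O') L'] [IsScalarTower (AdicCompletion J O) (AdicCompletion J' O') L']
    (g : L →ₗ[AdicCompletion J O] L') (hg : IsBaseChange (AdicCompletion J' O') g)
    (P' : PrimeSpectrum (AdicCompletion J' O'))
    (hP' : ¬ J'.map (algebraMap O' (AdicCompletion J' O')) ≤ P'.asIdeal) :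
    Algz.depthAt (PrimeSpectrum.comap (algebraMap (AdicCompletion J O) (AdicCompletion J' O')) P') L
      + Order.coheight (PrimeSpectrum.comap
        (algebraMap (AdicCompletion J O) (AdicCompletion J' O')) P') =
      Algz.depthAt P' L' + Order.coheight P' + t := by
  have hJm' : J' ≤ IsLocalRing.maximalIdeal O' := by
    rw [hJ]
    exact (Ideal.map_mono hJm).trans (((IsLocalRing.local_hom_TFAE (algebraMap O O')).out 0 2).mp
      ‹IsLocalHom (algebraMap O O')›)
  have hfg : J.FG := IsNoetherian.noetherian J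
  have hfg' : J'.FG := IsNoetherian.noetherian J'
  have lR : IsLocalRing (AdicCompletion J O) := Groth.Agent.Sga2lef.H106.Local.isLocalRing_cp J hJm
  have lR' : IsLocalRing (AdicCompletion J' O') :=
    Groth.Agent.Sga2lef.H106.Local.isLocalRing_cp J' hJm'
  have nR : IsNoetherianRing (AdicCompletion J O) :=
    Groth.Agent.Ega4A.CompleteNoeth.isNoetherianRing_adicCompletion J
  have nR1 : IsNoetherianRing (AdicCompletion J O ⊗[O] O') :=
    Algebra.EssFiniteType.isNoetherianRing (AdicCompletion J O) (AdicCompletion J O ⊗[O] O')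
  -- dualizing complexes
  have hdR : ∃ ω : Dual.D (AdicCompletion J O), Dual.IsDualizing (AdicCompletion J O) ω := by
    obtain ⟨ω, hω⟩ := hdc
    have hLBC : DRing.HasLBaseChange (algebraMap O (AdicCompletion J O)) :=
      Groth.Agent.LoccohB.LBC.hasLBaseChange _
    exact ⟨_, Groth.Agent.S1779.result O J ω hω⟩
  have huc : CAlg.IsUniversallyCatenary (AdicCompletion J O) := by
    obtain ⟨ω, hω⟩ := hdR
    exact Groth.Agent.S1721.result _ ω hω
  have hdR1 : ∃ ω : Dual.D (AdicCompletion J O ⊗[O] O'),
      Dual.IsDualizing (AdicCompletion J O ⊗[O] O') ω := by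
    obtain ⟨ω, hω⟩ := hdR
    exact Groth.Agent.S0377.result (AdicCompletion J O) ω hω _
  obtain ⟨e, he⟩ := exists_ringEquiv halg hJ hfg
  -- the points
  let C := AdicCompletion (J1 O' J) (AdicCompletion J O ⊗[O] O')
  let q' : PrimeSpectrum (AdicCompletion J' O') := IsLocalRing.closedPoint _
  let P'' : PrimeSpectrum C := PrimeSpectrum.comap (e.symm : C →+* AdicCompletion J' O') P'
  let q'' : PrimeSpectrum C := PrimeSpectrum.comap (e.symm : C →+* AdicCompletion J' O') q'
  let ρ : AdicCompletion J O ⊗[O] O' →+* AdicCompletion J' O' :=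
    (π halg : AdicCompletion J O ⊗[O] O' →+* AdicCompletion J' O')
  let p1 : PrimeSpectrum (AdicCompletion J O ⊗[O] O') := PrimeSpectrum.comap ρ P'
  let q1 : PrimeSpectrum (AdicCompletion J O ⊗[O] O') := PrimeSpectrum.comap ρ q'
  have hes : ∀ x, e.symm (algebraMap _ C x) = ρ x := fun x => by
    rw [← he, e.symm_apply_apply]
    rfl
  have hp1 : PrimeSpectrum.comap (algebraMap (AdicCompletion J O ⊗[O] O') C) P'' = p1 := by
    apply PrimeSpectrum.ext
    ext x
    change e.symm (algebraMap _ C x) ∈ P'.asIdeal ↔ ρ x ∈ P'.asIdeal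
    rw [hes]
  have hq1 : PrimeSpectrum.comap (algebraMap (AdicCompletion J O ⊗[O] O') C) q'' = q1 := by
    apply PrimeSpectrum.ext
    ext x
    change e.symm (algebraMap _ C x) ∈ q'.asIdeal ↔ ρ x ∈ q'.asIdeal
    rw [hes]
  have hPq : P' ≤ q' := IsLocalRing.le_maximalIdeal P'.2.ne_top
  have hPq'' : P'' ≤ q'' := Ideal.comap_mono hPq
  have hpq1 : p1 ≤ q1 := Ideal.comap_mono hPq
  have hPp : PrimeSpectrum.comap (algebraMap (AdicCompletion J O) (AdicCompletion J' O')) P' =
      PrimeSpectrum.comap (algebraMap (AdicCompletion J O) (AdicCompletion J O ⊗[O] O')) p1 := by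
    apply PrimeSpectrum.ext
    ext x
    change algebraMap (AdicCompletion J O) (AdicCompletion J' O') x ∈ P'.asIdeal ↔
      π halg (algebraMap (AdicCompletion J O) (AdicCompletion J O ⊗[O] O') x) ∈ P'.asIdeal
    rw [π_algebraMap]
  have hQq : PrimeSpectrum.comap (algebraMap (AdicCompletion J O) (AdicCompletion J' O')) q' =
      PrimeSpectrum.comap (algebraMap (AdicCompletion J O) (AdicCompletion J O ⊗[O] O')) q1 := by
    apply PrimeSpectrum.ext
    ext x
    change algebraMap (AdicCompletion J O) (AdicCompletion J' O') x ∈ q'.asIdeal ↔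
      π halg (algebraMap (AdicCompletion J O) (AdicCompletion J O ⊗[O] O') x) ∈ q'.asIdeal
    rw [π_algebraMap]
  have hq'' : Ideal.map (algebraMap (AdicCompletion J O ⊗[O] O') C) (J1 O' J) ≤ q''.asIdeal := by
    rw [Ideal.map_le_iff_le_comap, Ideal.map_le_iff_le_comap]
    intro a ha
    change e.symm (algebraMap _ C (algebraMap O _ a)) ∈ q'.asIdeal
    rw [hes]
    change π halg (algebraMap O _ a) ∈ IsLocalRing.maximalIdeal (AdicCompletion J' O')
    rw [(π halg).commutes, IsScalarTower.algebraMap_apply O O' (AdicCompletion J' O'),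
      ← Groth.Agent.Sga2lef.H106.Local.map_maximalIdeal J' hJm']
    refine Ideal.mem_map_of_mem _ (hJm' ?_)
    rw [hJ]
    exact Ideal.mem_map_of_mem _ ha
  obtain ⟨-, h2⟩ := Groth.Agent.S1714.result (AdicCompletion J O ⊗[O] O') hdR1 (J1 O' J)
    ((AdicCompletion J O ⊗[O] O') ⊗[AdicCompletion J O] L) P'' q'' hPq'' hq''
  -- the depth and dimension on the completion
  have e1 : Algz.depthAt P'' (AdicCompletion (J1 O' J)
      ((AdicCompletion J O ⊗[O] O') ⊗[AdicCompletion J O] L)) = Algz.depthAt P' L' :=
    depth_transport (R := AdicCompletion J O) (R1 := AdicCompletion J O ⊗[O] O') (J1 O' J) e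
      (fun r => by
        rw [IsScalarTower.algebraMap_apply (AdicCompletion J O) (AdicCompletion J O ⊗[O] O') C, hes]
        exact π_algebraMap halg r) g hg P'
  have e2 : Order.krullDim (Set.Icc P'' q'') = ((Order.coheight P' : ℕ∞) : WithBot ℕ∞) := by
    rw [Groth.Agent.LoccohA.CutoffLoc.krullDim_Icc hPq'', coheight_eq_rlen]
    congr 1
    exact rlen_comap_ringEquiv e.symm P' q'
  have e3 : Algz.depthAt (PrimeSpectrum.comap (algebraMap (AdicCompletion J O ⊗[O] O') C) P'')
      ((AdicCompletion J O ⊗[O] O') ⊗[AdicCompletion J O] L) = Algz.depthAt p1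
      ((AdicCompletion J O ⊗[O] O') ⊗[AdicCompletion J O] L) := by rw [hp1]
  have e4 : Order.krullDim (Set.Icc
      (PrimeSpectrum.comap (algebraMap (AdicCompletion J O ⊗[O] O') C) P'')
      (PrimeSpectrum.comap (algebraMap (AdicCompletion J O ⊗[O] O') C) q'')) =
      ((rlen p1 q1 : ℕ∞) : WithBot ℕ∞) := by
    rw [hp1, hq1, Groth.Agent.LoccohA.CutoffLoc.krullDim_Icc hpq1]
  have h3 : Algz.depthAt P' L' + Order.coheight P' = Algz.depthAt p1
      ((AdicCompletion J O ⊗[O] O') ⊗[AdicCompletion J O] L) + rlen p1 q1 := by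
    have h4 : ((Algz.depthAt P'' (AdicCompletion (J1 O' J)
      ((AdicCompletion J O ⊗[O] O') ⊗[AdicCompletion J O] L)) : ℕ∞) : WithBot ℕ∞) +
        Order.krullDim (Set.Icc P'' q'') = ((Algz.depthAt (PrimeSpectrum.comap
          (algebraMap (AdicCompletion J O ⊗[O] O') C) P'')
      ((AdicCompletion J O ⊗[O] O') ⊗[AdicCompletion J O] L) : ℕ∞) : WithBot ℕ∞) +
        Order.krullDim (Set.Icc
      (PrimeSpectrum.comap (algebraMap (AdicCompletion J O ⊗[O] O') C) P'')
      (PrimeSpectrum.comap (algebraMap (AdicCompletion J O ⊗[O] O') C) q'')) := h2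
    rw [e1, e2, e3, e4] at h4
    exact_mod_cast h4
  -- the local isomorphism
  have hnot : ¬ J' ≤ p1.asIdeal.comap (ι (J := J)) := by
    intro h
    apply hP'
    rw [Ideal.map_le_iff_le_comap]
    intro b hb
    have h5 : π halg (ι (J := J) b) ∈ P'.asIdeal := h hb
    have h6 : π halg (ι (J := J) b) = algebraMap O' (AdicCompletion J' O') b := π_ι halg b
    rw [h6] at h5
    exact h5
  have hb1 := K710.LocIso.bijective_tensor (R := AdicCompletion J O) p1.asIdeal
    ((p1.asIdeal.comap (ι (J := J))).comap (algebraMap O O')) (p1.asIdeal.comap (ι (J := J)))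
    (p1.asIdeal.comap (algebraMap (AdicCompletion J O) (AdicCompletion J O ⊗[O] O'))) rfl rfl rfl
    (H ⟨p1.asIdeal.comap (ι (J := J)), inferInstance⟩ hnot)
  have e5 := depthAt_eq_of_bijective p1 hb1
    (TensorProduct.mk (AdicCompletion J O) (AdicCompletion J O ⊗[O] O') L 1)
    (TensorProduct.isBaseChange (AdicCompletion J O) L (AdicCompletion J O ⊗[O] O'))
  -- the dimension formula
  have e6 := K710.DimEq.dim_formula huc p1 q1 hpq1 (res hJm) ((res hJm').comp ρ)
    (IsLocalRing.ResidueField.map (algebraMap O O')) (by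
      ext x
      change ρ x ∈ IsLocalRing.maximalIdeal (AdicCompletion J' O') ↔ res hJm' (ρ x) = 0
      rw [← ker_res hJm']
      rfl)
    (by
      ext x
      change IsLocalRing.ResidueField.map (algebraMap O O') (res hJm x) =
        res hJm' (π halg (algebraMap (AdicCompletion J O) (AdicCompletion J O ⊗[O] O') x))
      rw [π_algebraMap, res_map hfg hJm hJm' hJ halg])
    (fun k => by
      obtain ⟨a, rfl⟩ := res_surjective hJm k
      exact ⟨a, 1, by rw [map_one]; exact one_ne_zero, by rw [map_one, div_one]⟩)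
    (fun k => by
      obtain ⟨b, rfl⟩ := IsLocalRing.residue_surjective k
      refine ⟨ι (J := J) b, 1, by rw [map_one]; exact one_ne_zero, ?_⟩
      rw [map_one, div_one]
      change _ = res hJm' (π halg (ι (J := J) b))
      have h6 : π halg (ι (J := J) b) = algebraMap O' (AdicCompletion J' O') b := π_ι halg b
      rw [h6, res_algebraMap])
    hb1 t ht
  have e7 : PrimeSpectrum.comap (algebraMap (AdicCompletion J O) (AdicCompletion J' O')) q' =
      IsLocalRing.closedPoint _ := by
    apply PrimeSpectrum.ext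
    ext x
    change algebraMap (AdicCompletion J O) (AdicCompletion J' O') x ∈
      IsLocalRing.maximalIdeal (AdicCompletion J' O') ↔
      x ∈ IsLocalRing.maximalIdeal (AdicCompletion J O)
    rw [← ker_res hJm', ← ker_res hJm, RingHom.mem_ker, RingHom.mem_ker,
      res_map hfg hJm hJm' hJ halg, map_eq_zero]
  rw [h3, add_assoc, e6, ← hPp, ← hQq, e7, coheight_eq_rlen, ← e5, hPp]

end K710.HatLoc
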