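import Groth.Agent.Algz.K710.CplBC
import Groth.Agent.Algz.K573.FlatBC
import Groth.Agent.FormalB.AdicAlg

/-!
# Base change of the limit of an adic system
-/

set_option autoImplicit false
universe u

namespace K710.LimBC

open Groth.Agent.FormalB.AdicAlg Groth.Agent.CohqA.BaseChangeMod K710.CplBC

theorem evalₐ_eq_zero {O : Type u} [CommRing O] {J : Ideal O} (n : ℕ) (x : AdicCompletion J O)
    (hx : x ∈ (J.map (algebraMap O (AdicCompletion J O))) ^ n) :
    AdicCompletion.evalₐ J n x = 0 := by
  have h1 : (J.map (algebraMap O (AdicCompletion J O))) ^ n ≤ RingHom.ker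
      (AdicCompletion.evalₐ J n : AdicCompletion J O →+* O ⧸ J ^ n) := by
    rw [← Ideal.map_pow, Ideal.map_le_iff_le_comap]
    intro a ha
    rw [Ideal.mem_comap, RingHom.mem_ker]
    refine ((AdicCompletion.evalₐ J n).commutes a).trans ?_
    exact Ideal.Quotient.eq_zero_iff_mem.2 ha
  exact h1 hx

theorem evalₐ_eq_mk {O : Type u} [CommRing O] {J : Ideal O} (n : ℕ) (x : AdicCompletion J O) (a : O)
    (hx : x - algebraMap O (AdicCompletion J O) a ∈
      (J.map (algebraMap O (AdicCompletion J O))) ^ n) :
    AdicCompletion.evalₐ J n x = Ideal.Quotient.mk _ a := by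
  have h1 := evalₐ_eq_zero n _ hx
  rw [map_sub, sub_eq_zero] at h1
  rw [h1]
  exact (AdicCompletion.evalₐ J n).commutes a

variable {O O' : Type u} [CommRing O] [CommRing O'] [Algebra O O'] {J : Ideal O} {J' : Ideal O'}
  [Algebra (AdicCompletion J O) (AdicCompletion J' O')]
  (halg : ∀ a : O, algebraMap (AdicCompletion J O) (AdicCompletion J' O')
    (algebraMap O (AdicCompletion J O) a) =
      algebraMap O' (AdicCompletion J' O') (algebraMap O O' a))
  (hJ : J' = J.map (algebraMap O O'))

include halg hJ in
theorem map_pow_le (n : ℕ) : (J.map (algebraMap O (AdicCompletion J O))) ^ n ≤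
    ((J'.map (algebraMap O' (AdicCompletion J' O'))) ^ n).comap
      (algebraMap (AdicCompletion J O) (AdicCompletion J' O')) := by
  rw [← Ideal.map_pow, Ideal.map_le_iff_le_comap]
  intro b hb
  rw [Ideal.mem_comap, Ideal.mem_comap, halg, ← Ideal.map_pow]
  refine Ideal.mem_map_of_mem _ ?_
  rw [hJ, ← Ideal.map_pow]
  exact Ideal.mem_map_of_mem _ hb

include halg hJ in
theorem map_approx (n : ℕ) (x : AdicCompletion J O) (a : O)
    (hx : x - algebraMap O (AdicCompletion J O) a ∈
      (J.map (algebraMap O (AdicCompletion J O))) ^ n) :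
    algebraMap (AdicCompletion J O) (AdicCompletion J' O') x -
      algebraMap O' (AdicCompletion J' O') (algebraMap O O' a) ∈
      (J'.map (algebraMap O' (AdicCompletion J' O'))) ^ n := by
  rw [← halg, ← map_sub]
  exact map_pow_le halg hJ n hx

variable [IsNoetherianRing O] [IsNoetherianRing O'] (S : Sys O J) (S' : Sys O' J')
  (γ : ∀ n, S.M n →+ S'.M n) (hγ : ∀ n, IsBC (algebraMap O O') (γ n))
  (hc : ∀ n x, γ n (S.f n x) = S'.f n (γ (n + 1) x))

include halg hJ hγ hc in
/-- the limit of a base changed adic system is the base change of the limit -/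
theorem exists_isBC_lim : ∃ G : S.Lim →+ S'.Lim,
    (∀ n x, S'.pr n (G x) = γ n (S.pr n x)) ∧
      IsBC (algebraMap (AdicCompletion J O) (AdicCompletion J' O')) G := by
  have hfg : J.FG := IsNoetherian.noetherian J
  have hfg' : J'.FG := IsNoetherian.noetherian J'
  let G : S.Lim →+ S'.Lim :=
    { toFun := fun x => S'.mkLim (fun n => γ n (S.pr n x)) (fun n => by rw [← hc, S.f_pr])
      map_zero' := S'.ext_pr fun n => by
        rw [S'.pr_mkLim, map_zero, map_zero, map_zero]
      map_add' := fun x y => S'.ext_pr fun n => by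
        rw [S'.pr_mkLim, map_add, map_add, map_add, S'.pr_mkLim, S'.pr_mkLim] }
  have hG : ∀ n x, S'.pr n (G x) = γ n (S.pr n x) := fun n x => rfl
  have hGs : ∀ (r : AdicCompletion J O) (x : S.Lim),
      G (r • x) = algebraMap (AdicCompletion J O) (AdicCompletion J' O') r • G x := by
    intro r x
    apply S'.ext_pr
    intro n
    obtain ⟨a, ha⟩ := exists_approx hfg (n + 1) r
    rw [hG, S.pr_hat_smul, S.hat_smul n r a (evalₐ_eq_mk _ _ _ ha), (hγ n).map_smul,
      S'.pr_hat_smul, S'.hat_smul n _ _ (evalₐ_eq_mk _ _ _ (map_approx halg hJ _ _ _ ha)), hG]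
  refine ⟨G, hG, ?_⟩
  obtain ⟨T, _, _, f, hf⟩ := exists_isBC
    (algebraMap (AdicCompletion J O) (AdicCompletion J' O')) S.Lim
  have hfin : Module.Finite (AdicCompletion J' O') T := K573.FlatBC.finite_of_isBC hf
  obtain ⟨w, hw, -⟩ := hf.lift S'.Lim G hGs
  have hsurj : Function.Surjective w := by
    intro y
    have : y ∈ LinearMap.range w := by
      refine S'.mem_of_forall (LinearMap.range w) y fun n => ?_
      let mT : Module O' T := Module.compHom T (algebraMap O' (AdicCompletion J' O'))
      have tT : IsScalarTower O' (AdicCompletion J' O') T :=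
        IsScalarTower.of_algebraMap_smul fun r x => rfl
      let W : Submodule O' (S'.M n) := Submodule.map (S'.pr n)
        ((LinearMap.range w).restrictScalars O')
      have hW : W = ⊤ := by
        rw [eq_top_iff, ← K573.FlatBC.span_range (hγ n), Submodule.span_le]
        rintro _ ⟨z, rfl⟩
        obtain ⟨x, rfl⟩ := S.pr_surjective n z
        exact ⟨G x, ⟨f x, hw x⟩, hG n x⟩
      have h1 : S'.pr n y ∈ W := hW ▸ trivial
      obtain ⟨y', hy', h2⟩ := h1
      exact ⟨y', hy', h2.symm⟩
    exact this
  have hinj : Function.Injective w := by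
    rw [injective_iff_map_eq_zero]
    intro t ht
    have hjac : J'.map (algebraMap O' (AdicCompletion J' O')) ≤ Ideal.jacobson ⊥ :=
      IsAdicComplete.le_jacobson_bot _
    have hh : IsHausdorff (J'.map (algebraMap O' (AdicCompletion J' O'))) T :=
      IsHausdorff.of_le_jacobson _ _ hjac
    refine hh.haus t fun n => ?_
    rw [SModEq.zero]
    rcases n with _ | n
    · simp
    let mT : Module O' T := Module.compHom T (algebraMap O' (AdicCompletion J' O'))
    have tT : IsScalarTower O' (AdicCompletion J' O') T :=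
      IsScalarTower.of_algebraMap_smul fun r x => rfl
    let N : Submodule (AdicCompletion J' O') T :=
      (J'.map (algebraMap O' (AdicCompletion J' O'))) ^ (n + 1) • ⊤
    obtain ⟨g₀, hg₀⟩ := K573.FlatBC.exists_factor (S.pr n).toAddMonoidHom (S.pr_surjective n)
      (N.mkQ.toAddMonoidHom.comp f) (fun x hx => by
        have h1 : x ∈ LinearMap.ker (S.pr n) := hx
        rw [S.ker_pr, ← Sys.Jhat_pow_smul_top] at h1
        have h2 := K573.FlatBC.map_smul_mem hf _ h1
        refine (Submodule.Quotient.mk_eq_zero N).2 (Submodule.smul_mono_left ?_ h2)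
        rw [Ideal.map_pow]
        have h3 := map_pow_le halg hJ 1
        rw [pow_one, pow_one] at h3
        exact Ideal.pow_right_mono (Ideal.map_le_iff_le_comap.2 h3) _)
    have hg₀' : ∀ x, g₀ (S.pr n x) = N.mkQ (f x) := hg₀
    obtain ⟨v, hv, -⟩ := (hγ n).lift (T ⧸ N) g₀ (by
      intro a y
      obtain ⟨x, rfl⟩ := S.pr_surjective n y
      rw [← map_smul, hg₀', hg₀', ← algebraMap_smul (AdicCompletion J O) a x, hf.map_smul, halg,
        map_smul, algebraMap_smul])
    have key : ∀ t : T, v (S'.pr n (w t)) = N.mkQ t := by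
      intro t
      have h1 : t ∈ Submodule.span (AdicCompletion J' O') (Set.range f) := by
        rw [K573.FlatBC.span_range hf]; trivial
      refine Submodule.span_induction (p := fun t _ => v (S'.pr n (w t)) = N.mkQ t) ?_ ?_ ?_ ?_ h1
      · rintro _ ⟨x, rfl⟩
        rw [hw, hG, hv, hg₀']
      · rw [map_zero, map_zero, map_zero, map_zero]
      · intro x y _ _ hx hy
        rw [map_add, map_add, map_add, map_add, hx, hy]
      · intro c x _ hx
        obtain ⟨d, hd⟩ := exists_approx hfg' (n + 1) c
        rw [map_smul, S'.pr_hat_smul, S'.hat_smul n c d (evalₐ_eq_mk _ _ _ hd), map_smul, hx,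
          ← algebraMap_smul (AdicCompletion J' O') d, ← map_smul, ← sub_eq_zero, ← map_sub,
          ← sub_smul]
        refine (Submodule.Quotient.mk_eq_zero N).2 (Submodule.smul_mem_smul ?_ trivial)
        rw [← neg_sub]
        exact neg_mem hd
    have h5 := key t
    rw [ht, map_zero, map_zero] at h5
    exact (Submodule.Quotient.mk_eq_zero N).1 h5.symm
  exact hf.of_equiv (LinearEquiv.ofBijective w ⟨hinj, hsurj⟩) hw

end K710.LimBC
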