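import Groth.Agent.Algz.K710.Geo
import Groth.Agent.Algz.K710.LimBC
import Groth.Agent.Algz.K710.HatLoc
import Groth.Agent.Algz.K572.Hat
import Groth.Agent.Fdesc.PullbackStalk
import Groth.Agent.S0835

/-!
# Depth and dimension on completed stalks under a morphism which is an isomorphism off `V(I)`
-/

set_option autoImplicit false
universe u

open CategoryTheory CategoryTheory.Limits AlgebraicGeometry Opposite TopologicalSpace

namespace K710.Hat

open Groth.Agent.FormalB Groth.Agent.CohqA.BaseChangeMod Groth.Agent.Fdesc.PullbackStalk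

section Over

variable {A : Type u} [CommRing A] {X X' : Scheme.{u}} [X.Over (Spec (CommRingCat.of A))]
  [X'.Over (Spec (CommRingCat.of A))]

theorem fromSpecStalk_over (y : X) : X.fromSpecStalk y ≫ (X ↘ Spec (CommRingCat.of A)) =
    Spec.map (CommRingCat.ofHom (Algz.toStalk A X y)) := by
  let s : CommRingCat.of A ⟶ X.presheaf.stalk y := CommRingCat.ofHom (Algz.toStalk A X y)
  have h1 : s = (Scheme.ΓSpecIso (CommRingCat.of A)).inv ≫
      (X ↘ Spec (CommRingCat.of A)).appTop ≫ X.presheaf.germ ⊤ y trivial := rfl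
  have h2 : ∀ {R S : CommRingCat.{u}} (f : R ⟶ S), (Spec.map f).appTop =
      (Scheme.ΓSpecIso R).hom ≫ f ≫ (Scheme.ΓSpecIso S).inv := fun f => by
    rw [Scheme.ΓSpecIso_inv_naturality, Iso.hom_inv_id_assoc]
  change _ = Spec.map s
  refine ext_of_isAffine ?_
  rw [Scheme.Hom.comp_appTop, Scheme.fromSpecStalk_appTop, h2 s, h1]
  simp only [Category.assoc, Iso.hom_inv_id_assoc]
  congr 2

theorem over_fromSpecStalk (y : X) (p : PrimeSpectrum (X.presheaf.stalk y)) :
    ((X ↘ Spec (CommRingCat.of A)) (X.fromSpecStalk y p)).asIdeal =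
      p.asIdeal.comap (Algz.toStalk A X y) := by
  have h1 := congrArg (fun (f : Spec (X.presheaf.stalk y) ⟶ Spec (CommRingCat.of A)) => f p)
    (fromSpecStalk_over (A := A) y)
  have h2 : (X ↘ Spec (CommRingCat.of A)) (X.fromSpecStalk y p) =
      (X.fromSpecStalk y ≫ (X ↘ Spec (CommRingCat.of A))) p := rfl
  rw [h2, h1]
  rfl

theorem stalkMap_toStalk (b : X' ⟶ X)
    (hb : b ≫ (X ↘ Spec (CommRingCat.of A)) = X' ↘ Spec (CommRingCat.of A)) (y' : X') (a : A) :
    b.stalkMap y' (Algz.toStalk A X (b y') a) = Algz.toStalk A X' y' a := by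
  have h1 : b.stalkMap y' (X.presheaf.germ ⊤ (b y') trivial
      (Coh.toGlobal (X ↘ Spec (CommRingCat.of A)) a)) = X'.presheaf.germ ⊤ y' trivial
        (b.appTop (Coh.toGlobal (X ↘ Spec (CommRingCat.of A)) a)) :=
    Scheme.Hom.germ_stalkMap_apply b ⊤ y' trivial _
  refine h1.trans ?_
  change X'.presheaf.germ ⊤ y' trivial _ = X'.presheaf.germ ⊤ y' trivial _
  congr 1
  have h2 : (b ≫ (X ↘ Spec (CommRingCat.of A))).appTop =
    (X' ↘ Spec (CommRingCat.of A)).appTop := by rw [hb]
  rw [Scheme.Hom.comp_appTop] at h2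
  exact congr($h2 _)

theorem map_stalkIdeal (I : Ideal A) (b : X' ⟶ X)
    (hb : b ≫ (X ↘ Spec (CommRingCat.of A)) = X' ↘ Spec (CommRingCat.of A)) (y' : X') :
    Algz.stalkIdeal I y' = (Algz.stalkIdeal I (b y')).map (b.stalkMap y').hom := by
  rw [Algz.stalkIdeal, Algz.stalkIdeal, Ideal.map_map]
  congr 1
  ext a
  exact (stalkMap_toStalk b hb y' a).symm

theorem stalkIdeal_le (I : Ideal A) (y : X)
    (hy : I ≤ ((X ↘ Spec (CommRingCat.of A)).base y).asIdeal) :
    Algz.stalkIdeal I y ≤ IsLocalRing.maximalIdeal (X.presheaf.stalk y) := by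
  rw [Algz.stalkIdeal, Ideal.map_le_iff_le_comap]
  intro a ha
  rw [Ideal.mem_comap, IsLocalRing.mem_maximalIdeal, mem_nonunits_iff,
    K572.Hat.isUnit_toStalk_iff, not_not]
  exact hy ha

theorem bijective_localRingHom (I : Ideal A) (b : X' ⟶ X)
    (hb : b ≫ (X ↘ Spec (CommRingCat.of A)) = X' ↘ Spec (CommRingCat.of A))
    (hiso : ∀ V : X.Opens, (∀ x ∈ V, ¬ I ≤ ((X ↘ Spec (CommRingCat.of A)).base x).asIdeal) →
      IsIso (b ∣_ V)) (y' : X') (p' : PrimeSpectrum (X'.presheaf.stalk y'))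
    (hp' : ¬ Algz.stalkIdeal I y' ≤ p'.asIdeal) :
    Function.Bijective (Localization.localRingHom (p'.asIdeal.comap (b.stalkMap y').hom)
      p'.asIdeal (b.stalkMap y').hom rfl) := by
  apply Geo.bijective_localRingHom
  let Z : Set (Spec (CommRingCat.of A)) := PrimeSpectrum.zeroLocus (R := A) I
  have hZ : IsClosed Z := PrimeSpectrum.isClosed_zeroLocus (R := A) I
  let W : (Spec (CommRingCat.of A)).Opens := ⟨Zᶜ, hZ.isOpen_compl⟩
  refine Geo.isIso_stalkMap b ((X ↘ Spec (CommRingCat.of A)) ⁻¹ᵁ W) (hiso _ fun x hx h => hx h) _ ?_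
  change ¬ I ≤ ((X ↘ Spec (CommRingCat.of A)) (b (X'.fromSpecStalk y' p'))).asIdeal
  have h1 : (X ↘ Spec (CommRingCat.of A)) (b (X'.fromSpecStalk y' p')) =
      (X' ↘ Spec (CommRingCat.of A)) (X'.fromSpecStalk y' p') := by
    rw [← hb]
    rfl
  rw [h1, over_fromSpecStalk]
  intro h
  apply hp'
  rw [Algz.stalkIdeal, Ideal.map_le_iff_le_comap]
  exact h

end Over

theorem depthAt_congr {R : Type u} [CommRing R] {M N : Type u} [AddCommGroup M] [Module R M]
    [AddCommGroup N] [Module R N] (e : M ≃ₗ[R] N) (P : PrimeSpectrum R) :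
    Algz.depthAt P M = Algz.depthAt P N :=
  K710.CplLoc.depth_transport (RingEquiv.refl R) e (map_add e) (fun c x => map_smul e c x)
    e.bijective P

section Main

variable {A : Type u} [CommRing A] [IsNoetherianRing A] {I : Ideal A} {X X' : Scheme.{u}}
  [X.Over (Spec (CommRingCat.of A))] [X'.Over (Spec (CommRingCat.of A))] (b : X' ⟶ X)

theorem isBC_canAdd (M : X.Modules) (y' : X') :
    IsBC (b.stalkMap y').hom (canAdd b M y') := by
  let := stalkAlg b y'
  let := FlatMod.moduleStalkOver b ((Scheme.Modules.pullback b).obj M) y'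
  have := isScalarTower b ((Scheme.Modules.pullback b).obj M) y'
  exact (isBC_iff_isBaseChange (can b M y')).2 (isBaseChange_can b M y')

variable {b}

/-- **[HAT]**, with equality. -/
theorem hat_eq [IsNoetherian X] [IsNoetherian X']
    (hb : b ≫ (X ↘ Spec (CommRingCat.of A)) = X' ↘ Spec (CommRingCat.of A))
    [LocallyOfFiniteType b]
    (hiso : ∀ V : X.Opens, (∀ x ∈ V, ¬ I ≤ ((X ↘ Spec (CommRingCat.of A)).base x).asIdeal) →
      IsIso (b ∣_ V))
    {G : ℕᵒᵖ ⥤ X.Modules} (hG : Formal.IsCohFormal I G) (y' : X')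
    (hX : ∃ ω : Dual.D (X.presheaf.stalk (b y')), Dual.IsDualizing (X.presheaf.stalk (b y')) ω)
    (hy' : I ≤ ((X' ↘ Spec (CommRingCat.of A)).base y').asIdeal) (t : ℕ)
    (ht : @Algebra.trdeg (X.residueField (b.base y')) (X'.residueField y') _ _
      (b.residueFieldMap y').hom.toAlgebra = t)
    (P' : PrimeSpectrum (Algz.hatRing I y')) (hP' : ¬ Algz.hatIdeal I y' ≤ P'.asIdeal) :
    ∃ P : PrimeSpectrum (Algz.hatRing I (b.base y')), ¬ Algz.hatIdeal I (b.base y') ≤ P.asIdeal ∧
      Algz.depthAt P (Algz.hatStalk I G (b.base y')) + Order.coheight P =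
        Algz.depthAt P' (Algz.hatStalk I (G ⋙ Scheme.Modules.pullback b) y') +
          Order.coheight P' + t := by
  let alg : Algebra (X.presheaf.stalk (b y')) (X'.presheaf.stalk y') :=
    (b.stalkMap y').hom.toAlgebra
  have halg0 : algebraMap (X.presheaf.stalk (b y')) (X'.presheaf.stalk y') =
    (b.stalkMap y').hom := rfl
  have hloc : IsLocalHom (algebraMap (X.presheaf.stalk (b y')) (X'.presheaf.stalk y')) := by
    rw [halg0]; infer_instance
  have hft : Algebra.EssFiniteType (X.presheaf.stalk (b y')) (X'.presheaf.stalk y') :=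
    LocallyOfFiniteType.stalkMap b y'
  have hJ : Algz.stalkIdeal I y' = (Algz.stalkIdeal I (b y')).map
      (algebraMap (X.presheaf.stalk (b y')) (X'.presheaf.stalk y')) := map_stalkIdeal I b hb y'
  have hy : I ≤ ((X ↘ Spec (CommRingCat.of A)).base (b y')).asIdeal := by
    have h1 : (X ↘ Spec (CommRingCat.of A)) (b y') = (X' ↘ Spec (CommRingCat.of A)) y' := by
      rw [← hb]
      rfl
    change I ≤ ((X ↘ Spec (CommRingCat.of A)) (b y')).asIdeal
    rw [h1]
    exact hy'
  have hJm := stalkIdeal_le I (b y') hy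
  let hatAlg : Algebra (Algz.hatRing I (b y')) (Algz.hatRing I y') :=
    (Groth.Agent.CurvesB.EtaleCompl.complMap
      (algebraMap (X.presheaf.stalk (b y')) (X'.presheaf.stalk y')) (Algz.stalkIdeal I (b y'))
      (Algz.stalkIdeal I y') (by rw [hJ]; exact Ideal.le_comap_map)).toAlgebra
  have halg : ∀ a : X.presheaf.stalk (b y'), algebraMap (Algz.hatRing I (b y')) (Algz.hatRing I y')
      (algebraMap _ (Algz.hatRing I (b y')) a) = algebraMap _ (Algz.hatRing I y')
        (algebraMap (X.presheaf.stalk (b y')) (X'.presheaf.stalk y') a) := fun a =>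
    Groth.Agent.CurvesB.EtaleCompl.complMap_algebraMap _ _ _ _ a
  have hG' : Formal.IsCohFormal I (G ⋙ Scheme.Modules.pullback b) :=
    Groth.Agent.S0835.result A I X' X b hb G hG
  obtain ⟨g, -, hg⟩ := LimBC.exists_isBC_lim halg hJ (K572.Hat.sysAt hG (b y'))
    (K572.Hat.sysAt hG' y') (fun n => canAdd b (G.obj (op n)) y') (fun n => isBC_canAdd b _ y')
    (fun n x => (stalkMap_pullback_canAdd b (G.map (homOfLE (Nat.le_succ n)).op) y' x).symm)
  let mL : Module (Algz.hatRing I (b y')) (K572.Hat.sysAt hG' y').Lim :=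
    Module.compHom _ (algebraMap (Algz.hatRing I (b y')) (Algz.hatRing I y'))
  have tL : IsScalarTower (Algz.hatRing I (b y')) (Algz.hatRing I y')
      (K572.Hat.sysAt hG' y').Lim := IsScalarTower.of_algebraMap_smul fun r x => rfl
  let gl : (K572.Hat.sysAt hG (b y')).Lim →ₗ[Algz.hatRing I (b y')]
      (K572.Hat.sysAt hG' y').Lim := { g with map_smul' := hg.map_smul }
  have hgl : IsBaseChange (Algz.hatRing I y') gl := (isBC_iff_isBaseChange gl).1 hg
  have key := HatLoc.main hJm hJ halg hX (bijective_localRingHom I b hb hiso y') t ht gl hgl P' hP'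
  refine ⟨PrimeSpectrum.comap (algebraMap (Algz.hatRing I (b y')) (Algz.hatRing I y')) P', ?_, ?_⟩
  · intro h
    apply hP'
    rw [Algz.hatIdeal, Ideal.map_le_iff_le_comap]
    refine hJ.le.trans ?_
    rw [Ideal.map_le_iff_le_comap]
    intro a ha
    have h1 := h (Ideal.mem_map_of_mem _ ha)
    rw [Ideal.mem_comap, Ideal.mem_comap, ← halg]
    exact h1
  · rw [← depthAt_congr (K572.Hat.hatEquiv hG (b y')), ← depthAt_congr (K572.Hat.hatEquiv hG' y')]
    exact key

end Main

end K710.Hat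

namespace K710

/-- **[HAT]** -/
theorem hat (A : Type u) [CommRing A] [IsNoetherianRing A] (I : Ideal A) (X X' : Scheme.{u})
    [X.Over (Spec (CommRingCat.of A))] [X'.Over (Spec (CommRingCat.of A))] [IsNoetherian X]
    [IsNoetherian X']
    (hX : ∀ x : X, ∃ ω : Dual.D (X.presheaf.stalk x), Dual.IsDualizing (X.presheaf.stalk x) ω)
    (b : X' ⟶ X) (hb : b ≫ (X ↘ Spec (CommRingCat.of A)) = X' ↘ Spec (CommRingCat.of A))
    [LocallyOfFiniteType b]
    (hiso : ∀ V : X.Opens, (∀ x ∈ V, ¬ I ≤ ((X ↘ Spec (CommRingCat.of A)).base x).asIdeal) →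
      IsIso (b ∣_ V))
    (G : ℕᵒᵖ ⥤ X.Modules) (hG : Formal.IsCohFormal I G) (y' : X')
    (hy' : I ≤ ((X' ↘ Spec (CommRingCat.of A)).base y').asIdeal) (t : ℕ)
    (ht : @Algebra.trdeg (X.residueField (b.base y')) (X'.residueField y') _ _
      (b.residueFieldMap y').hom.toAlgebra = t)
    (P' : PrimeSpectrum (Algz.hatRing I y')) (hP' : ¬ Algz.hatIdeal I y' ≤ P'.asIdeal) :
    ∃ P : PrimeSpectrum (Algz.hatRing I (b.base y')), ¬ Algz.hatIdeal I (b.base y') ≤ P.asIdeal ∧
      Algz.depthAt P (Algz.hatStalk I G (b.base y')) + Order.coheight P ≤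
        Algz.depthAt P' (Algz.hatStalk I (G ⋙ Scheme.Modules.pullback b) y') +
          Order.coheight P' + t := by
  obtain ⟨P, h1, h2⟩ := Hat.hat_eq hb hiso hG y' (hX _) hy' t ht P' hP'
  exact ⟨P, h1, h2.le⟩

end K710
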